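import Mathlib

/-!
O'Nan's theorem on 2-transitive groups whose point stabiliser has an abelian normal subgroup that
is not semiregular on the remaining points: setting, trivial intersection and quadratic action.
-/

set_option autoImplicit false
set_option linter.unusedSectionVars false

namespace Cfsg.Agent.H70.ONan

open MulAction

/-- The family of conjugates `N a` (one for each point) of an abelian normal `p`-subgroup of a point
stabiliser of a 2-transitive group, some nontrivial element of it fixing a second point. -/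
structure Setup (p : ℕ) (G X : Type*) [Group G] [MulAction G X] where
  /-- the subgroup attached to a point -/
  N : X → Subgroup G
  le_stab : ∀ (a : X) (n : G), n ∈ N a → n • a = a
  conj_mem : ∀ (g : G) (a : X) (n : G), n ∈ N a → g * n * g⁻¹ ∈ N (g • a)
  comm : ∀ (a : X) (n m : G), n ∈ N a → m ∈ N a → n * m = m * n
  tt : ∀ a b c d : X, a ≠ b → c ≠ d → ∃ g : G, g • a = c ∧ g • b = d
  nsr : ∀ a b : X, a ≠ b → ∃ n : G, n ∈ N a ∧ n ≠ 1 ∧ n • b = b
  isP : ∀ a : X, IsPGroup p ↥(N a)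

variable {p : ℕ} {G X : Type*} [Group G] [MulAction G X] [FaithfulSMul G X] [Finite G] [Finite X]
  (S : Setup p G X)

theorem eq_one_of_fix {g : G} (h : ∀ z : X, g • z = z) : g = 1 :=
  eq_of_smul_eq_smul fun z => by rw [h z, one_smul]

/-- conjugation by `m` twisted commutator -/
def dl (m n : G) : G := n * (m * n⁻¹ * m⁻¹)

theorem dl_eq (m n : G) : dl m n = n * m * n⁻¹ * m⁻¹ := by simp [dl, mul_assoc]

/-- the elements of `N a` fixing `b` -/
def Setup.nb (a b : X) : Subgroup G := S.N a ⊓ stabilizer G b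

namespace Setup

theorem mem_nb {a b : X} {n : G} : n ∈ S.nb a b ↔ n ∈ S.N a ∧ n • b = b := by
  simp [nb, mem_stabilizer_iff]

theorem mem_conj_iff (g : G) (a : X) (n : G) : g * n * g⁻¹ ∈ S.N (g • a) ↔ n ∈ S.N a := by
  refine ⟨fun h => ?_, S.conj_mem g a n⟩
  have h2 := S.conj_mem g⁻¹ _ _ h
  rwa [inv_smul_smul, inv_inv,
    show g⁻¹ * (g * n * g⁻¹) * g = n by simp [mul_assoc]] at h2

theorem conj_mem_self {g : G} {a : X} (hg : g • a = a) {n : G} (hn : n ∈ S.N a) :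
    g * n * g⁻¹ ∈ S.N a := by
  have h := S.conj_mem g a n hn
  rwa [hg] at h

theorem card_N (g : G) (a : X) : Nat.card (S.N (g • a)) = Nat.card (S.N a) := by
  refine (Nat.card_congr ((MulAut.conj g).toEquiv.subtypeEquiv fun n => ?_)).symm
  simp [S.mem_conj_iff]

theorem card_nb_smul (g : G) (a b : X) :
    Nat.card (S.nb (g • a) (g • b)) = Nat.card (S.nb a b) := by
  refine (Nat.card_congr ((MulAut.conj g).toEquiv.subtypeEquiv fun n => ?_)).symm
  simp [S.mem_nb, S.mem_conj_iff, mul_smul]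

theorem card_nb {a b c d : X} (h : a ≠ b) (h' : c ≠ d) :
    Nat.card (S.nb c d) = Nat.card (S.nb a b) := by
  obtain ⟨g, rfl, rfl⟩ := S.tt a b c d h h'
  exact S.card_nb_smul g a b

theorem not_fix {a b : X} (hab : a ≠ b) : ∃ n : G, n ∈ S.N a ∧ n • b ≠ b := by
  by_contra hc
  push Not at hc
  obtain ⟨n, hn, hne, -⟩ := S.nsr a b hab
  apply hne
  apply eq_one_of_fix (X := X)
  intro z
  by_cases hz : z = a
  · rw [hz]; exact S.le_stab a n hn
  · obtain ⟨g, hga, hgb⟩ := S.tt a b a z hab (Ne.symm hz)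
    have h2 : g⁻¹ * n * g ∈ S.N a := by
      have h3 := S.conj_mem_self (g := g⁻¹) (inv_smul_eq_iff.mpr hga.symm) hn
      rwa [inv_inv] at h3
    have h4 := hc _ h2
    rwa [mul_smul, mul_smul, hgb, inv_smul_eq_iff, hgb] at h4

theorem N_ne {a b : X} (hab : a ≠ b) : S.N a ≠ S.N b := by
  intro h
  obtain ⟨n, hn, hnb⟩ := S.not_fix hab
  exact hnb (S.le_stab b n (h ▸ hn))

/-- any point has a partner, if the space has two points -/
theorem exists_ne_point {a b : X} (hab : a ≠ b) (c : X) : ∃ d : X, c ≠ d := by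
  by_cases hc : c = a
  · exact ⟨b, hc ▸ hab⟩
  · exact ⟨a, hc⟩

theorem inter_bot {a b : X} (hab : a ≠ b) : S.N a ⊓ S.N b = ⊥ := by
  classical
  have hcard : ∀ {c d e f : X}, c ≠ d → e ≠ f →
      Nat.card ↥(S.N e ⊓ S.N f) = Nat.card ↥(S.N c ⊓ S.N d) := by
    intro c d e f h h'
    obtain ⟨g, rfl, rfl⟩ := S.tt c d e f h h'
    refine (Nat.card_congr ((MulAut.conj g).toEquiv.subtypeEquiv fun n => ?_)).symm
    simp [Subgroup.mem_inf, S.mem_conj_iff]
  by_contra hne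
  obtain ⟨n, hn, hn1⟩ := (Subgroup.bot_or_exists_ne_one _).resolve_left hne
  apply hn1
  let Lam : X → X → Set X := fun c d => {z | S.N c ⊓ S.N d ≤ S.N z}
  have hsame : ∀ {c d z w : X}, c ≠ d → z ∈ Lam c d → w ∈ Lam c d → z ≠ w →
      Lam z w = Lam c d := by
    intro c d z w hcd hz hw hzw
    have h1 : S.N c ⊓ S.N d = S.N z ⊓ S.N w :=
      Subgroup.eq_of_le_of_card_ge (le_inf hz hw) (hcard hcd hzw).le
    simp only [Lam, h1]
  have hmove : ∀ {c d : X} (m : G), m ∈ S.N c → ∀ {z : X}, z ∈ Lam c d → m • z ∈ Lam c d := by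
    intro c d m hm z hz i hi
    have h1 := S.conj_mem m z i (hz hi)
    rwa [show m * i * m⁻¹ = i by
      rw [S.comm c m i hm (Subgroup.mem_inf.mp hi).1, mul_inv_cancel_right]] at h1
  apply eq_one_of_fix (X := X)
  intro w
  by_cases hw : w ∈ Lam a b
  · exact S.le_stab w n (hw hn)
  · have haw : a ≠ w := fun h => hw (h ▸ (inf_le_left : S.N a ⊓ S.N b ≤ S.N a))
    have hbw : b ≠ w := fun h => hw (h ▸ (inf_le_right : S.N a ⊓ S.N b ≤ S.N b))
    have h1 : n • w ∈ Lam a w :=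
      hmove n (Subgroup.mem_inf.mp hn).1 (inf_le_right : S.N a ⊓ S.N w ≤ S.N w)
    have h2 : n • w ∈ Lam b w :=
      hmove n (Subgroup.mem_inf.mp hn).2 (inf_le_right : S.N b ⊓ S.N w ≤ S.N w)
    by_contra hne2
    have e1 := hsame haw (inf_le_right : S.N a ⊓ S.N w ≤ S.N w) h1 (Ne.symm hne2)
    have e2 := hsame hbw (inf_le_right : S.N b ⊓ S.N w ≤ S.N w) h2 (Ne.symm hne2)
    have hb : b ∈ Lam a w := by
      rw [← e1, e2]; exact (inf_le_left : S.N b ⊓ S.N w ≤ S.N b)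
    have e3 := hsame haw (inf_le_left : S.N a ⊓ S.N w ≤ S.N a) hb hab
    exact hw (e3 ▸ (inf_le_right : S.N a ⊓ S.N w ≤ S.N w))

theorem eq_one_of_mem {a b : X} (hab : a ≠ b) {n : G} (ha : n ∈ S.N a) (hb : n ∈ S.N b) :
    n = 1 :=
  Subgroup.mem_bot.mp ((S.inter_bot hab).le (Subgroup.mem_inf.mpr ⟨ha, hb⟩))

/-- the centraliser of a nontrivial element of `N a` fixes `a` -/
theorem fix_of_comm {a : X} {n g : G} (hn : n ∈ S.N a) (h1 : n ≠ 1) (hc : g * n = n * g) :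
    g • a = a := by
  by_contra hne
  refine h1 (S.eq_one_of_mem (Ne.symm hne) hn ?_)
  have h := S.conj_mem g a n hn
  rwa [hc, mul_inv_cancel_right] at h

theorem comm_cross {a b : X} (hab : a ≠ b) {u v : G} (hu : u ∈ S.nb a b) (hv : v ∈ S.nb b a) :
    u * v = v * u := by
  rw [mem_nb] at hu hv
  have h1 : u * v * u⁻¹ * v⁻¹ ∈ S.N b := mul_mem (S.conj_mem_self hu.2 hv.1) (inv_mem hv.1)
  have h2 : u * v * u⁻¹ * v⁻¹ ∈ S.N a := by
    rw [show u * v * u⁻¹ * v⁻¹ = u * (v * u⁻¹ * v⁻¹) by simp [mul_assoc]]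
    exact mul_mem hu.1 (S.conj_mem_self hv.2 (inv_mem hu.1))
  have h3 := S.eq_one_of_mem hab h2 h1
  rwa [mul_inv_eq_one, mul_inv_eq_iff_eq_mul] at h3

theorem fix_of_comm_mem {a b : X} {u v : G} (hv : v ∈ S.N b) (hv1 : v ≠ 1)
    (hu : u ∈ S.N a) (h : u * v = v * u) : u ∈ S.nb a b :=
  S.mem_nb.mpr ⟨hu, S.fix_of_comm hv hv1 h⟩

theorem exists_nb {a b : X} (hab : a ≠ b) : ∃ n ∈ S.nb a b, n ≠ 1 := by
  obtain ⟨n, h1, h2, h3⟩ := S.nsr a b hab
  exact ⟨n, S.mem_nb.mpr ⟨h1, h3⟩, h2⟩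

theorem dl_mem {a : X} {m n : G} (hm : m • a = a) (hn : n ∈ S.N a) : dl m n ∈ S.N a :=
  mul_mem hn (S.conj_mem_self hm (inv_mem hn))

theorem dl_mul {a : X} {m n n' : G} (hm : m • a = a) (hn : n ∈ S.N a) (hn' : n' ∈ S.N a) :
    dl m (n * n') = dl m n * dl m n' := by
  have h := S.comm a n' (m * n⁻¹ * m⁻¹) hn' (S.conj_mem_self hm (inv_mem hn))
  have h2 := S.comm a (m * n'⁻¹ * m⁻¹) (m * n⁻¹ * m⁻¹)
    (S.conj_mem_self hm (inv_mem hn')) (S.conj_mem_self hm (inv_mem hn))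
  simp only [dl]
  calc n * n' * (m * (n * n')⁻¹ * m⁻¹)
      = n * n' * ((m * n'⁻¹ * m⁻¹) * (m * n⁻¹ * m⁻¹)) := by simp [mul_assoc]
    _ = n * (n' * (m * n⁻¹ * m⁻¹)) * (m * n'⁻¹ * m⁻¹) := by rw [h2]; simp only [mul_assoc]
    _ = _ := by rw [h]; simp only [mul_assoc]

theorem dl_dl {a : X} {m e n : G} (hm : m • a = a) (he : e • a = a) (hn : n ∈ S.N a)
    (hc : e * m = m * e) : dl e (dl m n) = dl m (dl e n) := by
  have hL : dl e (dl m n) = dl e n * dl e (m * n⁻¹ * m⁻¹) :=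
    S.dl_mul he hn (S.conj_mem_self hm (inv_mem hn))
  have hR : dl m (dl e n) = dl m n * dl m (e * n⁻¹ * e⁻¹) :=
    S.dl_mul hm hn (S.conj_mem_self he (inv_mem hn))
  have A := S.conj_mem_self he (inv_mem hn)
  have B := S.conj_mem_self hm (inv_mem hn)
  rw [hL, hR]
  simp only [dl]
  have hs : e * (m * n⁻¹ * m⁻¹)⁻¹ * e⁻¹ = m * (e * n⁻¹ * e⁻¹)⁻¹ * m⁻¹ := by
    calc e * (m * n⁻¹ * m⁻¹)⁻¹ * e⁻¹ = (e * m) * n * (e * m)⁻¹ := by simp [mul_assoc]
      _ = (m * e) * n * (m * e)⁻¹ := by rw [hc]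
      _ = _ := by simp [mul_assoc]
  rw [hs]
  calc n * (e * n⁻¹ * e⁻¹) * ((m * n⁻¹ * m⁻¹) * (m * (e * n⁻¹ * e⁻¹)⁻¹ * m⁻¹))
      = n * ((e * n⁻¹ * e⁻¹) * (m * n⁻¹ * m⁻¹)) * (m * (e * n⁻¹ * e⁻¹)⁻¹ * m⁻¹) := by
        simp only [mul_assoc]
    _ = n * ((m * n⁻¹ * m⁻¹) * (e * n⁻¹ * e⁻¹)) * (m * (e * n⁻¹ * e⁻¹)⁻¹ * m⁻¹) := by
        rw [S.comm a _ _ A B]
    _ = _ := by simp only [mul_assoc]

theorem dl_eq_one_iff {m n : G} : dl m n = 1 ↔ n * m = m * n := by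
  rw [dl_eq, mul_inv_eq_one, mul_inv_eq_iff_eq_mul]

/-- a `p`-group acting on a nontrivial `p`-group fixes a nontrivial element -/
theorem exists_fixed_ne_one [Fact p.Prime] {H K : Subgroup G} (hH : IsPGroup p ↥H)
    (hK : IsPGroup p ↥K) (hne : ∃ x ∈ K, x ≠ 1) (hnorm : ∀ h ∈ H, ∀ x ∈ K, h * x * h⁻¹ ∈ K) :
    ∃ e ∈ K, e ≠ 1 ∧ ∀ h ∈ H, h * e = e * h := by
  let _ : MulAction ↥H ↥K :=
    { smul := fun h x => ⟨(h : G) * x * (h : G)⁻¹, hnorm _ h.2 _ x.2⟩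
      one_smul := fun x => Subtype.ext (by
        change (1 : G) * (x : G) * (1 : G)⁻¹ = (x : G); simp)
      mul_smul := fun h h' x => Subtype.ext (by
        change ((h : G) * h') * (x : G) * ((h : G) * h')⁻¹
          = (h : G) * ((h' : G) * x * (h' : G)⁻¹) * (h : G)⁻¹
        simp [mul_assoc]) }
  have : Nontrivial ↥K := by
    obtain ⟨x, hx, hx1⟩ := hne
    exact ⟨⟨⟨x, hx⟩, 1, fun h => hx1 (congrArg Subtype.val h)⟩⟩
  have hdvd : p ∣ Nat.card ↥K := by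
    obtain ⟨k, hk⟩ := IsPGroup.iff_card.mp hK
    rcases Nat.eq_zero_or_pos k with rfl | hk0
    · rw [pow_zero] at hk
      exact absurd hk (ne_of_gt Finite.one_lt_card)
    · exact hk ▸ dvd_pow_self p hk0.ne'
  obtain ⟨b, hb, hb1⟩ := hH.exists_fixed_point_of_prime_dvd_card_of_fixed_point ↥K hdvd
    (a := (1 : ↥K)) (fun h => Subtype.ext (by
      change (h : G) * (1 : G) * (h : G)⁻¹ = 1; simp))
  refine ⟨b, b.2, fun h => hb1 (Subtype.ext h.symm), fun h hh => ?_⟩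
  have h1 : h * (b : G) * h⁻¹ = (b : G) := congrArg Subtype.val (hb ⟨h, hh⟩)
  rwa [mul_inv_eq_iff_eq_mul] at h1

/-- a `p`-group normalising `K` and a proper subgroup `U` fixes a coset outside `U` -/
theorem exists_fixed_coset [Fact p.Prime] {H K U : Subgroup G} (hH : IsPGroup p ↥H)
    (hK : IsPGroup p ↥K) (hne : ∃ x ∈ K, x ∉ U)
    (hnorm : ∀ h ∈ H, ∀ x ∈ K, h * x * h⁻¹ ∈ K)
    (hnormU : ∀ h ∈ H, ∀ x ∈ U, h * x * h⁻¹ ∈ U) :
    ∃ e ∈ K, e ∉ U ∧ ∀ h ∈ H, e⁻¹ * (h * e * h⁻¹) ∈ U := by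
  classical
  let U' : Subgroup ↥K := U.subgroupOf K
  let f : ↥H → ↥K → ↥K := fun h x => ⟨(h : G) * x * (h : G)⁻¹, hnorm _ h.2 _ x.2⟩
  have hf : ∀ (h : ↥H) (x y : ↥K), QuotientGroup.leftRel U' x y →
      QuotientGroup.leftRel U' (f h x) (f h y) := by
    intro h x y hxy
    rw [QuotientGroup.leftRel_apply, Subgroup.mem_subgroupOf] at hxy ⊢
    have := hnormU _ h.2 _ hxy
    simpa [f, mul_assoc] using this
  let _ : MulAction ↥H (↥K ⧸ U') :=
    { smul := fun h => Quotient.map' (f h) (hf h)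
      one_smul := fun q => by
        induction q using Quotient.inductionOn' with
        | h x =>
          refine congrArg _ (Subtype.ext ?_)
          change (1 : G) * (x : G) * (1 : G)⁻¹ = (x : G); simp
      mul_smul := fun h h' q => by
        induction q using Quotient.inductionOn' with
        | h x =>
          refine congrArg _ (Subtype.ext ?_)
          change ((h : G) * h') * (x : G) * ((h : G) * h')⁻¹
            = (h : G) * ((h' : G) * x * (h' : G)⁻¹) * (h : G)⁻¹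
          simp [mul_assoc] }
  have hdvd : p ∣ Nat.card (↥K ⧸ U') := by
    obtain ⟨k, hk⟩ := IsPGroup.index hK U'
    rcases Nat.eq_zero_or_pos k with rfl | hk0
    · rw [pow_zero] at hk
      obtain ⟨x, hx, hxU⟩ := hne
      exact absurd (Subgroup.mem_subgroupOf.mp
        ((Subgroup.index_eq_one.mp hk).symm ▸ Subgroup.mem_top (⟨x, hx⟩ : ↥K) :
          (⟨x, hx⟩ : ↥K) ∈ U')) hxU
    · rw [← Subgroup.index_eq_card, hk]
      exact dvd_pow_self p hk0.ne'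
  obtain ⟨b, hb, hb1⟩ := hH.exists_fixed_point_of_prime_dvd_card_of_fixed_point (↥K ⧸ U') hdvd
    (a := ((1 : ↥K) : ↥K ⧸ U')) (fun h => by
      refine congrArg _ (Subtype.ext ?_)
      change (h : G) * (1 : G) * (h : G)⁻¹ = 1; simp)
  obtain ⟨e, rfl⟩ := QuotientGroup.mk_surjective b
  refine ⟨e, e.2, fun he => hb1 ?_, fun h hh => ?_⟩
  · rw [QuotientGroup.eq, Subgroup.mem_subgroupOf]
    simpa using he
  · have h1 : ((f ⟨h, hh⟩ e : ↥K) : ↥K ⧸ U') = (e : ↥K ⧸ U') := hb ⟨h, hh⟩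
    rw [eq_comm, QuotientGroup.eq, Subgroup.mem_subgroupOf] at h1
    simpa [f] using h1

/-- quadratic action -/
theorem quad [Fact p.Prime] {x y : X} (hxy : x ≠ y) {m n : G} (hm : m ∈ S.nb y x)
    (hn : n ∈ S.N x) : dl m n ∈ S.nb x y := by
  let U : Subgroup G :=
    { carrier := {n | n ∈ S.N x ∧ ∀ m ∈ S.nb y x, dl m n ∈ S.nb x y}
      one_mem' := ⟨one_mem _, fun m _ => by simp [dl]⟩
      mul_mem' := fun {a b} ha hb => ⟨mul_mem ha.1 hb.1, fun m hm => by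
        rw [S.dl_mul (S.mem_nb.mp hm).2 ha.1 hb.1]
        exact mul_mem (ha.2 m hm) (hb.2 m hm)⟩
      inv_mem' := fun {a} ha => ⟨inv_mem ha.1, fun m hm => by
        have h1 := S.dl_mul (S.mem_nb.mp hm).2 (inv_mem ha.1) ha.1
        rw [inv_mul_cancel, show dl m 1 = 1 by simp [dl]] at h1
        rw [eq_inv_of_mul_eq_one_left h1.symm]
        exact inv_mem (ha.2 m hm)⟩ }
  suffices h : n ∈ U from h.2 m hm
  by_contra hnU
  have hsU : ∀ s ∈ S.nb x y, s ∈ U := fun s hs =>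
    ⟨(S.mem_nb.mp hs).1, fun m hm => by
      rw [dl_eq_one_iff.mpr (S.comm_cross hxy hs hm)]; exact one_mem _⟩
  have hfix : ∀ h ∈ S.nb y x, h • x = x := fun h hh => (S.mem_nb.mp hh).2
  obtain ⟨e0, he0, he0U, hcos⟩ := exists_fixed_coset (H := S.nb y x) (K := S.N x) (U := U)
    ((S.isP y).to_le inf_le_left) (S.isP x) ⟨n, hn, hnU⟩
    (fun h hh a ha => S.conj_mem_self (hfix h hh) ha)
    (fun h hh a ha => ⟨S.conj_mem_self (hfix h hh) ha.1, fun m hm => by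
      have h1 : dl m (h * a * h⁻¹) = h * dl m a * h⁻¹ := by
        have hc : h * m = m * h := S.comm y _ _ (S.mem_nb.mp hh).1 (S.mem_nb.mp hm).1
        calc dl m (h * a * h⁻¹) = h * a * h⁻¹ * ((m * h) * a⁻¹ * (m * h)⁻¹) := by
              simp [dl, mul_assoc]
          _ = h * a * h⁻¹ * ((h * m) * a⁻¹ * (h * m)⁻¹) := by rw [hc]
          _ = _ := by simp [dl, mul_assoc]
      rw [h1, ← S.comm_cross hxy (ha.2 m hm) hh, mul_inv_cancel_right]
      exact ha.2 m hm⟩)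
  have hdU : ∀ m ∈ S.nb y x, dl m e0 ∈ U := by
    intro m hm
    have h1 := inv_mem (hcos m hm)
    rw [mul_inv_rev, inv_inv] at h1
    rw [show dl m e0 = (m * e0 * m⁻¹)⁻¹ * e0 by
      rw [dl, S.comm x e0 _ he0 (S.conj_mem_self (hfix m hm) (inv_mem he0))]
      simp [mul_assoc]]
    exact h1
  have hzy : e0 • y ≠ y := fun h => he0U (hsU e0 (S.mem_nb.mpr ⟨he0, h⟩))
  obtain ⟨w, hw, hw1⟩ := S.exists_nb (Ne.symm hzy)
  have hsE : ∀ s ∈ S.nb x y, ∀ t ∈ S.nb y (e0 • y), s * t * s⁻¹ ∈ S.nb y (e0 • y) := by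
    intro s hs t ht
    rw [S.mem_nb] at hs ht ⊢
    refine ⟨S.conj_mem_self hs.2 ht.1, ?_⟩
    have hz : s • (e0 • y) = e0 • y := by
      rw [← mul_smul, S.comm x s e0 hs.1 he0, mul_smul, hs.2]
    rw [mul_smul, mul_smul, inv_smul_eq_iff.mpr hz.symm, ht.2, hz]
  obtain ⟨e, he, he1, hec⟩ := exists_fixed_ne_one (H := S.nb x y) (K := S.nb y (e0 • y))
    ((S.isP x).to_le inf_le_left) ((S.isP y).to_le inf_le_left) ⟨w, hw, hw1⟩ hsE
  obtain ⟨s, hs, hs1⟩ := S.exists_nb hxy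
  rw [S.mem_nb] at he
  have hex : e • x = x := S.fix_of_comm (S.mem_nb.mp hs).1 hs1 (hec s hs).symm
  have heM : e ∈ S.nb y x := S.mem_nb.mpr ⟨he.1, hex⟩
  have hd : dl e e0 ∈ S.nb x y := by
    refine S.mem_nb.mpr ⟨S.dl_mem hex he0, ?_⟩
    have h1 : dl e e0 = (e * e0⁻¹ * e⁻¹) * e0 := S.comm x _ _ he0
      (S.conj_mem_self hex (inv_mem he0))
    rw [h1, mul_smul, mul_smul, mul_smul, inv_smul_eq_iff.mpr he.2.symm, inv_smul_smul]
    exact S.le_stab y e he.1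
  refine he0U ⟨he0, fun m hm => ?_⟩
  have h2 : dl e (dl m e0) = 1 := by
    rw [S.dl_dl (hfix m hm) hex he0 (S.comm y e m he.1 (S.mem_nb.mp hm).1),
      dl_eq_one_iff.mpr (S.comm_cross hxy hd hm)]
  exact S.fix_of_comm_mem he.1 he1 (S.dl_mem (hfix m hm) he0) (dl_eq_one_iff.mp h2)

variable [Fact p.Prime]

/-- `nb b a` fixes the orbit of `b` under `N a` -/
theorem nb_fix_orbit {a b : X} (hab : a ≠ b) {m n : G} (hm : m ∈ S.nb b a) (hn : n ∈ S.N a) :
    m • (n • b) = n • b := by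
  have h := (S.mem_nb.mp (S.quad hab hm (inv_mem hn))).2
  rw [dl, inv_inv, mul_smul, mul_smul, mul_smul,
    inv_smul_eq_iff.mpr (S.le_stab b m (S.mem_nb.mp hm).1).symm, inv_smul_eq_iff] at h
  exact h

theorem conj_nb {a b : X} (hab : a ≠ b) {m n : G} (hm : m ∈ S.nb b a) (hn : n ∈ S.N a) :
    ∃ u ∈ S.nb a b, n * m * n⁻¹ = u * m :=
  ⟨dl m n, S.quad hab hm hn, by simp [dl, mul_assoc]⟩

end Setup

end Cfsg.Agent.H70.ONan
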