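import Mathlib

/-!
A finite abelian group with a spread whose planes are closed and which is not a plane is a vector
space over a finite field, the spread being its lines.
-/

set_option autoImplicit false
set_option linter.unusedSectionVars false

namespace Cfsg.Agent.H70.ONan

/-- `sp v` is the member of the spread containing `v` -/
structure Spread (V : Type*) [AddCommGroup V] where
  /-- the member containing a vector -/
  sp : V → AddSubgroup V
  self_mem : ∀ v, v ∈ sp v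
  sp_zero : sp 0 = ⊥
  sp_eq : ∀ v w, w ∈ sp v → w ≠ 0 → sp w = sp v
  plane : ∀ u v z, z ∈ sp u ⊔ sp v → sp z ≤ sp u ⊔ sp v
  big : ∀ u v, ∃ z, z ∉ sp u ⊔ sp v

namespace Spread

variable {V : Type*} [AddCommGroup V] (P : Spread V)

theorem sp_le {v w : V} (h : w ∈ P.sp v) : P.sp w ≤ P.sp v := by
  rcases eq_or_ne w 0 with rfl | hw
  · rw [P.sp_zero]; exact bot_le
  · rw [P.sp_eq v w h hw]

theorem ne_zero_of_notMem {v w : V} (h : w ∉ P.sp v) : w ≠ 0 :=
  fun e => h (e ▸ zero_mem _)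

theorem notMem_symm {v w : V} (hv : v ≠ 0) (h : w ∉ P.sp v) : v ∉ P.sp w :=
  fun hm => h (P.sp_eq w v hm hv ▸ P.self_mem w)

theorem eq_zero_of_mem {u v x : V} (hv : v ∉ P.sp u) (hu : u ≠ 0) (h1 : x ∈ P.sp u)
    (h2 : x ∈ P.sp v) : x = 0 := by
  by_contra hx
  exact P.notMem_symm hu hv (((P.sp_eq u x h1 hx).symm.trans (P.sp_eq v x h2 hx)) ▸ P.self_mem u)

theorem exchange {a b z : V} (hz : z ∈ P.sp a ⊔ P.sp b) (hza : z ∉ P.sp a) :
    P.sp a ⊔ P.sp z = P.sp a ⊔ P.sp b := by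
  refine le_antisymm (sup_le le_sup_left (P.plane a b z hz)) (sup_le le_sup_left ?_)
  obtain ⟨x, hx, y, hy, rfl⟩ := AddSubgroup.mem_sup.mp hz
  have hy0 : y ≠ 0 := fun h => hza (by rw [h, add_zero]; exact hx)
  have hy' : y ∈ P.sp a ⊔ P.sp (x + y) := by
    have h := sub_mem (AddSubgroup.mem_sup_right (S := P.sp a) (P.self_mem (x + y)))
      (AddSubgroup.mem_sup_left (T := P.sp (x + y)) hx)
    rwa [add_sub_cancel_left] at h
  rw [← P.sp_eq b y hy hy0]
  exact P.plane a (x + y) y hy'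

theorem plane_eq {a b z w : V} (hz : z ∈ P.sp a ⊔ P.sp b) (hw : w ∈ P.sp a ⊔ P.sp b)
    (hz0 : z ≠ 0) (hwz : w ∉ P.sp z) : P.sp z ⊔ P.sp w = P.sp a ⊔ P.sp b := by
  obtain ⟨c, hc⟩ : ∃ c, P.sp z ⊔ P.sp c = P.sp a ⊔ P.sp b := by
    by_cases hza : z ∈ P.sp a
    · exact ⟨b, by rw [P.sp_eq a z hza hz0]⟩
    · exact ⟨a, by rw [sup_comm, P.exchange hz hza]⟩
  rw [← hc] at hw ⊢
  exact P.exchange hw hwz

/-- closed subgroups -/
def Cl (A : AddSubgroup V) : Prop := ∀ z ∈ A, P.sp z ≤ A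

theorem cl_sp (v : V) : P.Cl (P.sp v) := fun _ h => P.sp_le h

theorem cl_sup {A B : AddSubgroup V} (hA : P.Cl A) (hB : P.Cl B) : P.Cl (A ⊔ B) := by
  intro z hz
  obtain ⟨x, hx, y, hy, rfl⟩ := AddSubgroup.mem_sup.mp hz
  refine le_trans (P.plane x y _ ?_) (sup_le_sup (hA x hx) (hB y hy))
  exact add_mem (AddSubgroup.mem_sup_left (P.self_mem x)) (AddSubgroup.mem_sup_right (P.self_mem y))

theorem exists_compl [Finite V] {a : V} (ha : a ≠ 0) :
    ∃ C : AddSubgroup V, P.Cl C ∧ a ∉ C ∧ C ⊔ P.sp a = ⊤ := by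
  classical
  have hfin : {C : AddSubgroup V | P.Cl C ∧ a ∉ C}.Finite := Set.toFinite _
  obtain ⟨C, hC⟩ := hfin.exists_maximal ⟨⊥, fun z hz => by
    rw [AddSubgroup.mem_bot] at hz; rw [hz, P.sp_zero], by simpa using ha⟩
  obtain ⟨hcl, haC⟩ := hC.1
  refine ⟨C, hcl, haC, ?_⟩
  by_contra hne
  obtain ⟨v, hv⟩ : ∃ v, v ∉ C ⊔ P.sp a := by
    by_contra hc
    push Not at hc
    exact hne (eq_top_iff.mpr fun x _ => hc x)
  have hmem : v ∈ C ⊔ P.sp v := AddSubgroup.mem_sup_right (P.self_mem v)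
  by_cases hav : a ∈ C ⊔ P.sp v
  · obtain ⟨c, hc, r, hr, hcr⟩ := AddSubgroup.mem_sup.mp hav
    have hr0 : r ≠ 0 := fun h => haC (by rw [← hcr, h, add_zero]; exact hc)
    have hr' : r ∈ C ⊔ P.sp a := by
      have h := sub_mem (AddSubgroup.mem_sup_right (S := C) (P.self_mem a))
        (AddSubgroup.mem_sup_left (T := P.sp a) hc)
      rw [show r = a - c by rw [← hcr]; abel]
      exact h
    exact hv (P.cl_sup hcl (P.cl_sp a) r hr' (P.sp_eq v r hr hr0 ▸ P.self_mem v))
  · exact hv (AddSubgroup.mem_sup_left (hC.2 ⟨P.cl_sup hcl (P.cl_sp v), hav⟩ le_sup_left hmem))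

open Classical in
/-- the image of `u` under the kernel element sending `a` to `a'` -/
noncomputable def hh (a a' u : V) : V :=
  if h : ∃ x, u ∉ P.sp a ∧ x ∈ P.sp u ∧ a' - x ∈ P.sp (u - a) then h.choose else 0

theorem hh_of_mem {a a' u : V} (h : u ∈ P.sp a) : P.hh a a' u = 0 := by
  rw [hh, dif_neg (fun ⟨_, hx, _⟩ => hx h)]

variable {a a' : V} (ha : a ≠ 0) (ha' : a' ∈ P.sp a)

include ha ha' in
theorem hh_spec {u : V} (hu : u ∉ P.sp a) :
    P.hh a a' u ∈ P.sp u ∧ a' - P.hh a a' u ∈ P.sp (u - a) := by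
  have hu0 := P.ne_zero_of_notMem hu
  have h1 : a ∈ P.sp u ⊔ P.sp (u - a) := by
    have := sub_mem (AddSubgroup.mem_sup_left (T := P.sp (u - a)) (P.self_mem u))
      (AddSubgroup.mem_sup_right (S := P.sp u) (P.self_mem (u - a)))
    rwa [sub_sub_cancel] at this
  obtain ⟨x, hx, y, hy, hxy⟩ := AddSubgroup.mem_sup.mp (P.plane _ _ _ h1 ha')
  have hex : ∃ x, u ∉ P.sp a ∧ x ∈ P.sp u ∧ a' - x ∈ P.sp (u - a) :=
    ⟨x, hu, hx, by rw [← hxy, add_sub_cancel_left]; exact hy⟩
  rw [hh, dif_pos hex]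
  exact hex.choose_spec.2

include ha ha' in
theorem hh_eq {u x : V} (hu : u ∉ P.sp a) (hx : x ∈ P.sp u) (hx' : a' - x ∈ P.sp (u - a)) :
    P.hh a a' u = x := by
  obtain ⟨h1, h2⟩ := P.hh_spec ha ha' hu
  have hu0 := P.ne_zero_of_notMem hu
  rw [← sub_eq_zero]
  refine P.eq_zero_of_mem (v := u - a) ?_ hu0 (sub_mem h1 hx) ?_
  · intro h
    exact P.notMem_symm ha hu (by simpa using sub_mem (P.self_mem u) h)
  · simpa using sub_mem hx' h2

include ha ha' in
theorem hh_sub {u v : V} (hu : u ∉ P.sp a) (hv : v ∉ P.sp a ⊔ P.sp u) :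
    P.hh a a' (u - v) = P.hh a a' u - P.hh a a' v := by
  have hva : v ∉ P.sp a := fun h => hv (AddSubgroup.mem_sup_left h)
  obtain ⟨u1, u2⟩ := P.hh_spec ha ha' hu
  obtain ⟨v1, v2⟩ := P.hh_spec ha ha' hva
  have hu0 := P.ne_zero_of_notMem hu
  have hmL : ∀ {x y z : V}, z ∈ P.sp x → z ∈ P.sp x ⊔ P.sp y := fun h => AddSubgroup.mem_sup_left h
  have hmR : ∀ {x y z : V}, z ∈ P.sp y → z ∈ P.sp x ⊔ P.sp y := fun h => AddSubgroup.mem_sup_right h
  have huv : u - v ∉ P.sp a := fun h => hv (by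
    simpa using sub_mem (hmR (x := a) (P.self_mem u)) (hmL (y := u) h))
  have huv0 := P.ne_zero_of_notMem huv
  set d := P.hh a a' u - P.hh a a' v with hd
  have hduv : d ∈ P.sp (u - v) := by
    by_contra hne
    have p1 : d ∈ P.sp u ⊔ P.sp v := sub_mem (hmL u1) (hmR v1)
    have p2 : u - v ∈ P.sp u ⊔ P.sp v := sub_mem (hmL (P.self_mem u)) (hmR (P.self_mem v))
    have p3 : d ∈ P.sp (u - a) ⊔ P.sp (v - a) := by
      have h := sub_mem (hmR (x := u - a) v2) (hmL (y := v - a) u2)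
      simpa [hd] using h
    have p4 : u - v ∈ P.sp (u - a) ⊔ P.sp (v - a) := by
      have h := sub_mem (hmL (y := v - a) (P.self_mem (u - a))) (hmR (x := u - a) (P.self_mem (v - a)))
      simpa using h
    have e := (P.plane_eq p2 p1 huv0 hne).symm.trans (P.plane_eq p4 p3 huv0 hne)
    have hau : a ∈ P.sp u ⊔ P.sp v := by
      have h1 : u - a ∈ P.sp u ⊔ P.sp v := by rw [e]; exact hmL (P.self_mem _)
      simpa using sub_mem (hmL (y := v) (P.self_mem u)) h1
    apply hv
    rw [sup_comm, P.exchange hau (P.notMem_symm ha hu)]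
    exact hmR (P.self_mem v)
  apply P.hh_eq ha ha' huv
  · exact hduv
  · by_contra hne
    have hz0 : u - v - a ≠ 0 := by
      intro h
      apply hv
      rw [sub_sub, sub_eq_zero] at h
      have : v = u - a := by rw [h]; abel
      rw [this]
      exact sub_mem (hmR (P.self_mem u)) (hmL (P.self_mem a))
    have p1 : a' - d ∈ P.sp (u - a) ⊔ P.sp v := by
      have h := add_mem (hmL (y := v) u2) (hmR (x := u - a) v1)
      have e : a' - d = (a' - P.hh a a' u) + P.hh a a' v := by rw [hd]; abel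
      rw [e]; exact h
    have p2 : u - v - a ∈ P.sp (u - a) ⊔ P.sp v := by
      rw [sub_right_comm]
      exact sub_mem (hmL (P.self_mem _)) (hmR (P.self_mem v))
    have p3 : u - v - a ∈ P.sp a ⊔ P.sp (u - v) :=
      sub_mem (hmR (P.self_mem _)) (hmL (P.self_mem a))
    have p4 : a' - d ∈ P.sp a ⊔ P.sp (u - v) := sub_mem (hmL ha') (hmR hduv)
    have e := (P.plane_eq p2 p1 hz0 hne).symm.trans (P.plane_eq p3 p4 hz0 hne)
    have h1 : v ∈ P.sp a ⊔ P.sp (u - v) := by rw [← e]; exact hmR (P.self_mem v)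
    have h2 : u ∈ P.sp a ⊔ P.sp (u - v) := by
      simpa using add_mem (hmR (x := a) (P.self_mem (u - v))) h1
    exact hv (by rw [P.exchange h2 hu]; exact h1)

section Compl

variable {C : AddSubgroup V} (hcl : P.Cl C) (haC : a ∉ C)

include hcl haC in
theorem eq_zero_of_mem_compl {z : V} (hz : z ∈ C) (hza : z ∈ P.sp a) : z = 0 := by
  by_contra h
  exact haC (hcl z hz (P.sp_eq a z hza h ▸ P.self_mem a))

include hcl haC in
theorem notMem_of_compl {z : V} (hz : z ∈ C) (h0 : z ≠ 0) : z ∉ P.sp a :=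
  fun h => h0 (P.eq_zero_of_mem_compl hcl haC hz h)

include hcl haC in
theorem ind_of_compl {u v : V} (hu : u ∈ C) (hv : v ∈ C) (h : v ∉ P.sp u) :
    v ∉ P.sp a ⊔ P.sp u := by
  intro hm
  rw [sup_comm] at hm
  apply haC
  have h1 : a ∈ P.sp u ⊔ P.sp v := by
    rw [P.exchange hm h]; exact AddSubgroup.mem_sup_right (P.self_mem a)
  exact sup_le (hcl u hu) (hcl v hv) h1

variable (htop : C ⊔ P.sp a = ⊤)

include hcl htop in
theorem exists_other (u : V) : ∃ w ∈ C, w ∉ P.sp u := by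
  by_contra hc
  push Not at hc
  obtain ⟨z, hz⟩ := P.big u a
  exact hz ((sup_le_sup (show C ≤ P.sp u from hc) le_rfl) (htop ▸ AddSubgroup.mem_top z))

include ha ha' hcl haC htop in
theorem hh_sub_compl {u v : V} (hu : u ∈ C) (hv : v ∈ C) :
    P.hh a a' (u - v) = P.hh a a' u - P.hh a a' v := by
  have base : ∀ {x y : V}, x ∈ C → y ∈ C → x ≠ 0 → y ∉ P.sp x →
      P.hh a a' (x - y) = P.hh a a' x - P.hh a a' y := fun hx hy h0 h =>
    P.hh_sub ha ha' (P.notMem_of_compl hcl haC hx h0) (P.ind_of_compl hcl haC hx hy h)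
  rcases eq_or_ne u v with rfl | huv
  · rw [sub_self, sub_self, P.hh_of_mem (zero_mem _)]
  rcases eq_or_ne v 0 with rfl | hv0
  · rw [sub_zero, P.hh_of_mem (u := (0 : V)) (zero_mem _), sub_zero]
  rcases eq_or_ne u 0 with rfl | hu0
  · obtain ⟨w, hw, hwv⟩ := P.exists_other hcl htop v
    have hw0 := P.ne_zero_of_notMem hwv
    have hvw := P.notMem_symm hv0 hwv
    have h1 : w + v ∉ P.sp w := fun h => hvw (by simpa using sub_mem h (P.self_mem w))
    have e1 := base hw (add_mem hw hv) hw0 h1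
    have e2 := base (add_mem hw hv) hw (P.ne_zero_of_notMem h1) (P.notMem_symm hw0 h1)
    rw [show w - (w + v) = 0 - v by abel] at e1
    rw [show w + v - w = v by abel] at e2
    rw [e1, e2, P.hh_of_mem (u := (0 : V)) (zero_mem _)]
    abel
  by_cases hvu : v ∈ P.sp u
  · obtain ⟨w, hw, hwu⟩ := P.exists_other hcl htop u
    have e1 := base hu hw hu0 hwu
    have e2 := base hv hw hv0 (by rw [P.sp_eq u v hvu hv0]; exact hwu)
    have hne : u - w ≠ 0 := fun h => hwu (sub_eq_zero.mp h ▸ P.self_mem u)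
    have h3 : v - w ∉ P.sp (u - w) := by
      intro h
      have h4 : u - v ∈ P.sp (u - w) := by
        simpa using sub_mem (P.self_mem (u - w)) h
      have h5 : u - v ∈ P.sp u := sub_mem (P.self_mem u) hvu
      have h6 : u - w ∈ P.sp u := by
        rw [← P.sp_eq u _ h5 (sub_ne_zero.mpr huv), P.sp_eq (u - w) _ h4 (sub_ne_zero.mpr huv)]
        exact P.self_mem _
      exact hwu (by simpa using sub_mem (P.self_mem u) h6)
    have e3 := base (sub_mem hu hw) (sub_mem hv hw) hne h3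
    rw [sub_sub_sub_cancel_right, e1, e2] at e3
    rw [e3]
    abel
  · exact base hu hv hu0 hvu

include ha ha' hcl haC htop in
theorem g_indep {x u v : V} (hx : x ∈ P.sp a) (hu : u ∈ C) (hv : v ∈ C) (hu0 : u ≠ 0)
    (hv0 : v ≠ 0) :
    P.hh a a' (x + u) - P.hh a a' u = P.hh a a' (x + v) - P.hh a a' v := by
  have base : ∀ {u v : V}, u ∈ C → v ∈ C → u ≠ 0 → v ∉ P.sp u →
      P.hh a a' (x + u) - P.hh a a' u = P.hh a a' (x + v) - P.hh a a' v := by
    intro u v hu hv hu0 h
    have h1 : x + u ∉ P.sp a := fun e =>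
      P.notMem_of_compl hcl haC hu hu0 (by simpa using sub_mem e hx)
    have h2 : x + v ∉ P.sp a ⊔ P.sp (x + u) := by
      intro e
      apply P.ind_of_compl hcl haC hu hv h
      have hle : P.sp a ⊔ P.sp (x + u) ≤ P.sp a ⊔ P.sp u := sup_le le_sup_left
        (P.plane _ _ _ (add_mem (AddSubgroup.mem_sup_left hx)
          (AddSubgroup.mem_sup_right (P.self_mem u))))
      simpa using sub_mem (hle e) (AddSubgroup.mem_sup_left (T := P.sp u) hx)
    have e := P.hh_sub ha ha' h1 h2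
    rw [add_sub_add_left_eq_sub, P.hh_sub_compl ha ha' hcl haC htop hu hv] at e
    rw [sub_eq_sub_iff_sub_eq_sub]
    exact e.symm
  by_cases h : v ∈ P.sp u
  · obtain ⟨w, hw, hwu⟩ := P.exists_other hcl htop u
    exact (base hu hw hu0 hwu).trans (base hv hw hv0 (by rw [P.sp_eq u v h hv0]; exact hwu)).symm
  · exact base hu hv hu0 h

include ha ha' hcl haC htop in
theorem exists_kernel_aux : ∃ f : V →+ V, (∀ z, f z ∈ P.sp z) ∧ f a = a' := by
  classical
  set h := P.hh a a' with hdef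
  obtain ⟨u0, hu0C, hu0⟩ := P.exists_other hcl htop 0
  have hu00 := P.ne_zero_of_notMem hu0
  obtain ⟨v0, hv0C, hv0u⟩ := P.exists_other hcl htop u0
  have hv00 := P.ne_zero_of_notMem hv0u
  let g : V → V := fun x => h (x + u0) - h u0
  have gu : ∀ x ∈ P.sp a, ∀ u ∈ C, u ≠ 0 → h (x + u) - h u = g x := fun x hx u hu h0 =>
    P.g_indep ha ha' hcl haC htop hx hu hu0C h0 hu00
  have hadd : ∀ u ∈ C, ∀ v ∈ C, h (u + v) = h u + h v := by
    intro u hu v hv
    have e1 := P.hh_sub_compl ha ha' hcl haC htop hu (neg_mem hv)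
    have e2 := P.hh_sub_compl ha ha' hcl haC htop (zero_mem C) hv
    rw [sub_neg_eq_add] at e1
    rw [zero_sub, P.hh_of_mem (u := (0 : V)) (zero_mem _), zero_sub] at e2
    rw [hdef, e1, e2]; abel
  have hsub' : ∀ x ∈ P.sp a, ∀ x' ∈ P.sp a, g (x + x') = g x - g (-x') := by
    intro x hx x' hx'
    have h1 : x + u0 ∉ P.sp a := fun e =>
      P.notMem_of_compl hcl haC hu0C hu00 (by simpa using sub_mem e hx)
    have h2 : -x' + v0 ∉ P.sp a ⊔ P.sp (x + u0) := by
      intro e
      apply P.ind_of_compl hcl haC hu0C hv0C hv0u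
      have hle : P.sp a ⊔ P.sp (x + u0) ≤ P.sp a ⊔ P.sp u0 := sup_le le_sup_left
        (P.plane _ _ _ (add_mem (AddSubgroup.mem_sup_left hx)
          (AddSubgroup.mem_sup_right (P.self_mem u0))))
      simpa using add_mem (hle e) (AddSubgroup.mem_sup_left (T := P.sp u0) hx')
    have e := P.hh_sub ha ha' h1 h2
    have hne : u0 - v0 ≠ 0 := fun e => hv0u (sub_eq_zero.mp e ▸ P.self_mem u0)
    have e2 := gu (x + x') (add_mem hx hx') (u0 - v0) (sub_mem hu0C hv0C) hne
    have e3 := gu x hx u0 hu0C hu00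
    have e4 := gu (-x') (neg_mem hx') v0 hv0C hv00
    rw [← hdef, show x + u0 - (-x' + v0) = x + x' + (u0 - v0) by abel] at e
    rw [← e2, ← e3, ← e4, e, hdef, P.hh_sub_compl ha ha' hcl haC htop hu0C hv0C]
    abel
  have g0 : g 0 = 0 := by simp [g]
  have gadd : ∀ x ∈ P.sp a, ∀ x' ∈ P.sp a, g (x + x') = g x + g x' := by
    intro x hx x' hx'
    have e := hsub' 0 (zero_mem _) x' hx'
    rw [zero_add, g0, zero_sub] at e
    rw [hsub' x hx x' hx', e, sub_eq_add_neg]
  have gmem : ∀ x ∈ P.sp a, g x ∈ P.sp a := by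
    intro x hx
    have key : ∀ u ∈ C, u ≠ 0 → g x ∈ P.sp a ⊔ P.sp u := by
      intro u hu h0
      rw [← gu x hx u hu h0]
      have h1 : x + u ∉ P.sp a := fun e =>
        P.notMem_of_compl hcl haC hu h0 (by simpa using sub_mem e hx)
      refine sub_mem (P.plane a u (x + u) ?_ (P.hh_spec ha ha' h1).1)
        (AddSubgroup.mem_sup_right (P.hh_spec ha ha' (P.notMem_of_compl hcl haC hu h0)).1)
      exact add_mem (AddSubgroup.mem_sup_left hx) (AddSubgroup.mem_sup_right (P.self_mem u))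
    obtain ⟨x1, hx1, u1, hu1, e1⟩ := AddSubgroup.mem_sup.mp (key u0 hu0C hu00)
    obtain ⟨x2, hx2, u2, hu2, e2⟩ := AddSubgroup.mem_sup.mp (key v0 hv0C hv00)
    have h3 : u1 - u2 = 0 := by
      refine P.eq_zero_of_mem_compl hcl haC (sub_mem (hcl u0 hu0C hu1) (hcl v0 hv0C hu2)) ?_
      have e : u1 - u2 = x2 - x1 := by
        rw [sub_eq_sub_iff_add_eq_add, add_comm u1, e1, e2]
      rw [e]; exact sub_mem hx2 hx1
    rw [sub_eq_zero] at h3
    have : u1 = 0 := P.eq_zero_of_mem hv0u hu00 hu1 (h3 ▸ hu2)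
    rw [← e1, this, add_zero]; exact hx1
  have ga : g a = a' := by
    have d0 : ∀ u ∈ C, u ≠ 0 → g (-a) + a' ∈ P.sp (u - a) := by
      intro u hu h0
      have hua := P.notMem_of_compl hcl haC hu h0
      have h1 : u - a ∉ P.sp a := fun e => hua (by simpa using add_mem e (P.self_mem a))
      rw [← gu (-a) (neg_mem (P.self_mem a)) u hu h0, neg_add_eq_sub]
      rw [show h (u - a) - h u + a' = h (u - a) + (a' - h u) by abel]
      exact add_mem (P.hh_spec ha ha' h1).1 (P.hh_spec ha ha' hua).2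
    have hd : g (-a) + a' = 0 := by
      by_contra hd0
      have e := (P.sp_eq _ _ (d0 u0 hu0C hu00) hd0).symm.trans
        (P.sp_eq _ _ (d0 v0 hv0C hv00) hd0)
      have h4 : u0 - v0 ∈ P.sp (u0 - a) := by
        have h := sub_mem (P.self_mem (u0 - a)) (e.symm ▸ P.self_mem (v0 - a))
        rwa [sub_sub_sub_cancel_right] at h
      have hne : u0 - v0 ≠ 0 := fun e => hv0u (sub_eq_zero.mp e ▸ P.self_mem u0)
      have h5 : u0 - a ∈ C :=
        hcl _ (sub_mem hu0C hv0C) (P.sp_eq _ _ h4 hne ▸ P.self_mem _)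
      exact haC (by simpa using sub_mem hu0C h5)
    have e := gadd a (P.self_mem a) (-a) (neg_mem (P.self_mem a))
    rw [add_neg_cancel, g0] at e
    rw [eq_neg_of_add_eq_zero_left e.symm, eq_neg_of_add_eq_zero_left hd, neg_neg]
  have hdec : ∀ z : V, ∃ x ∈ P.sp a, ∃ u ∈ C, x + u = z := by
    intro z
    obtain ⟨u, hu, x, hx, e⟩ := AddSubgroup.mem_sup.mp (htop ▸ AddSubgroup.mem_top z)
    exact ⟨x, hx, u, hu, by rw [add_comm, e]⟩
  choose xc hxc uc huc hxu using hdec
  have huniq : ∀ z, ∀ x ∈ P.sp a, ∀ u ∈ C, x + u = z → xc z = x ∧ uc z = u := by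
    intro z x hx u hu e
    have h1 : xc z - x = u - uc z := by
      rw [sub_eq_sub_iff_add_eq_add, hxu, add_comm u, e]
    have h2 : xc z - x = 0 :=
      P.eq_zero_of_mem_compl hcl haC (h1 ▸ sub_mem hu (huc z)) (sub_mem (hxc z) hx)
    rw [h2] at h1
    exact ⟨sub_eq_zero.mp h2, (sub_eq_zero.mp h1.symm).symm⟩
  refine ⟨AddMonoidHom.mk' (fun z => g (xc z) + h (uc z)) fun z z' => ?_, fun z => ?_, ?_⟩
  · obtain ⟨e1, e2⟩ := huniq (z + z') (xc z + xc z') (add_mem (hxc z) (hxc z'))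
      (uc z + uc z') (add_mem (huc z) (huc z')) (by rw [add_add_add_comm, hxu, hxu])
    rw [e1, e2, gadd _ (hxc z) _ (hxc z'), hadd _ (huc z) _ (huc z')]
    abel
  · change g (xc z) + h (uc z) ∈ P.sp z
    rcases eq_or_ne (uc z) 0 with hu | hu
    · have hz : xc z = z := by rw [← add_zero (xc z), ← hu, hxu]
      rw [hu, hdef, P.hh_of_mem (u := (0 : V)) (zero_mem _), add_zero, hz]
      rcases eq_or_ne z 0 with rfl | hz0
      · rw [g0]; exact zero_mem _
      · have hza : z ∈ P.sp a := hz ▸ hxc z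
        rw [P.sp_eq a z hza hz0]
        exact gmem z hza
    · rw [← gu _ (hxc z) _ (huc z) hu, sub_add_cancel, hxu]
      refine (P.hh_spec ha ha' fun e => P.notMem_of_compl hcl haC (huc z) hu ?_).1
      have := sub_mem e (hxc z)
      rwa [sub_eq_of_eq_add' (hxu z).symm] at this
  · change g (xc a) + h (uc a) = a'
    obtain ⟨e1, e2⟩ := huniq a a (P.self_mem a) 0 (zero_mem _) (add_zero a)
    rw [e1, e2, hdef, P.hh_of_mem (u := (0 : V)) (zero_mem _), add_zero]
    exact ga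

end Compl

include ha ha' in
theorem exists_kernel [Finite V] : ∃ f : V →+ V, (∀ z, f z ∈ P.sp z) ∧ f a = a' := by
  obtain ⟨C, hcl, haC, htop⟩ := P.exists_compl ha
  exact P.exists_kernel_aux ha ha' hcl haC htop

omit ha ha' in
/-- a nonzero kernel element is injective -/
theorem kernel_inj {f : V →+ V} (hf : ∀ z, f z ∈ P.sp z) {b : V} (hb : b ≠ 0) (hfb : f b = 0) :
    f = 0 := by
  have key : ∀ v, v ∉ P.sp b → f v = 0 := by
    intro v hv
    have h1 : f (v + b) = f v := by rw [map_add, hfb, add_zero]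
    refine P.eq_zero_of_mem (u := v) (v := v + b) ?_ (P.ne_zero_of_notMem hv) (hf v) (h1 ▸ hf _)
    intro h
    exact P.notMem_symm hb hv (by simpa using sub_mem h (P.self_mem v))
  ext z
  by_cases hz : z ∈ P.sp b
  · obtain ⟨w, hw⟩ := P.big b b
    rw [sup_idem] at hw
    have h1 : z + w ∉ P.sp b := fun h => hw (by simpa using sub_mem h hz)
    have e := key _ h1
    rw [map_add, key w hw, add_zero] at e
    exact e
  · exact key z hz

/-- the kernel of the spread, as a ring of endomorphisms -/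
def kernel : Subring (AddMonoid.End V) where
  carrier := {f | ∀ z, f z ∈ P.sp z}
  mul_mem' := fun {_ g} hf hg z => P.sp_le (hg z) (hf (g z))
  one_mem' := fun z => P.self_mem z
  add_mem' := fun hf hg z => add_mem (hf z) (hg z)
  zero_mem' := fun _ => zero_mem _
  neg_mem' := fun hf z => neg_mem (hf z)

/-- A finite abelian group with such a spread is a vector space over a finite field. -/
theorem exists_module [Finite V] :
    ∃ (F : Type) (_ : Field F) (_ : Fintype F) (_ : Module F V),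
      ∀ v w : V, v ≠ 0 → (w ∈ P.sp v ↔ ∃ c : F, c • v = w) := by
  classical
  obtain ⟨b, hb⟩ := P.big 0 0
  rw [sup_idem, P.sp_zero, AddSubgroup.mem_bot] at hb
  let K := ↥(P.kernel)
  have hKfin : Finite (AddMonoid.End V) :=
    Finite.of_injective (fun f => (f : V → V)) DFunLike.coe_injective
  have : Finite K := Subtype.finite
  have : Nontrivial K := ⟨⟨0, 1, fun h => hb (by
    have := DFunLike.congr_fun (congrArg Subtype.val h) b
    exact this.symm)⟩⟩
  have : NoZeroDivisors K := ⟨fun {f g} hfg => by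
    by_contra hc
    push Not at hc
    obtain ⟨hf, hg⟩ := hc
    have hgb : (g : AddMonoid.End V) b ≠ 0 := fun h =>
      hg (Subtype.ext (P.kernel_inj g.2 hb h))
    have h2 : (f : AddMonoid.End V) ((g : AddMonoid.End V) b) = 0 :=
      DFunLike.congr_fun (congrArg Subtype.val hfg) b
    exact hf (Subtype.ext (P.kernel_inj f.2 hgb h2))⟩
  have : IsDomain K := NoZeroDivisors.to_isDomain K
  have hK : IsField K := Finite.isDomain_to_isField K
  let _ : Field K := hK.toField
  let F := Shrink.{0} K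
  let e : F ≃ K := (equivShrink.{0} K).symm
  let _ : Field F := e.field
  let _ : Fintype F := Fintype.ofFinite F
  let ρ : F →+* AddMonoid.End V := P.kernel.subtype.comp
    { toFun := e
      map_one' := e.apply_symm_apply _
      map_mul' := fun _ _ => e.apply_symm_apply _
      map_zero' := e.apply_symm_apply _
      map_add' := fun _ _ => e.apply_symm_apply _ }
  let _ : Module F V := Module.compHom V ρ
  refine ⟨F, inferInstance, inferInstance, inferInstance, fun v w hv => ⟨fun hw => ?_, ?_⟩⟩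
  · obtain ⟨f, hf, hfv⟩ := P.exists_kernel hv hw
    refine ⟨e.symm ⟨f, hf⟩, ?_⟩
    change (P.kernel.subtype (e (e.symm ⟨f, hf⟩))) v = w
    rw [e.apply_symm_apply]
    exact hfv
  · rintro ⟨c, rfl⟩
    exact (e c).2 v

end Spread

end Cfsg.Agent.H70.ONan
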