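import Cfsg.Agent.H70.ONan.Hyper
import Cfsg.Agent.H70.ONan.Kernel
import Cfsg.Agent.H29.OW.Projective

/-!
The point-line geometry is a projective space over a finite field.
-/

set_option autoImplicit false
set_option linter.unusedSectionVars false

open scoped LinearAlgebra.Projectivization

namespace Cfsg.Agent.H70.ONan

open MulAction

variable {p : ℕ} {G X : Type*} [Group G] [MulAction G X] [FaithfulSMul G X] [Finite G] [Finite X]
  [Fact p.Prime] (S : Setup p G X)

namespace Setup

theorem exists_off {a b : X} (hab : a ≠ b) : ∃ w, w ∉ S.lam a b := by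
  obtain ⟨n, hn, hn1⟩ := S.exists_nb hab
  by_contra hc
  push Not at hc
  refine hn1 (eq_one_of_fix (X := X) fun z => ?_)
  exact S.fix_line hab (S.mem_nb.mp hn).1 (S.le_stab a n (S.mem_nb.mp hn).1) (S.mem_nb.mp hn).2 (hc z)

/-- the statement that `r` realises the geometry in the vector space `W` -/
structure IsRep (F W : Type*) [Field F] [AddCommGroup W] [Module F W] (r : X → W) : Prop where
  ne_zero : ∀ z, r z ≠ 0
  inj : ∀ z z', ∀ k : F, r z = k • r z' → z = z'
  surj : ∀ v : W, v ≠ 0 → ∃ z, ∃ k : F, v = k • r z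
  line : ∀ a b z, a ≠ b → (z ∈ S.lam a b ↔ r z ∈ Submodule.span F {r a, r b})

/-- the conclusion -/
def IsCoord (F : Type) [Field F] (n : ℕ) (φ : X ≃ ℙ F (Fin n → F)) : Prop :=
  ∀ a b z, a ≠ b → (z ∈ S.lam a b ↔ (φ z).submodule ≤ (φ a).submodule ⊔ (φ b).submodule)

theorem coord_of_rep {F : Type} [Field F] {W : Type*} [AddCommGroup W] [Module F W]
    [FiniteDimensional F W] {r : X → W} (hr : S.IsRep F W r) {a b : X} (hab : a ≠ b) :
    ∃ n : ℕ, 3 ≤ n ∧ ∃ φ : X ≃ ℙ F (Fin n → F), S.IsCoord F n φ := by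
  let e : W ≃ₗ[F] (Fin (Module.finrank F W) → F) := (Module.finBasis F W).equivFun
  have hne : ∀ z, e (r z) ≠ 0 := fun z h => hr.ne_zero z (e.map_eq_zero_iff.mp h)
  have hn : 3 ≤ Module.finrank F W := by
    obtain ⟨w, hw⟩ := S.exists_off hab
    have hb : r b ∉ Submodule.span F {r a} := by
      intro h
      obtain ⟨k, hk⟩ := Submodule.mem_span_singleton.mp h
      exact hab (hr.inj b a k hk.symm).symm
    have h1 : r w ∉ Submodule.span F {r a, r b} := fun h => hw ((hr.line a b w hab).mpr h)
    have li2 : LinearIndependent F ![r b, r a] := by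
      rw [linearIndependent_fin2]
      exact ⟨hr.ne_zero a, fun k hk => hb (Submodule.mem_span_singleton.mpr ⟨k, hk⟩)⟩
    have li3 : LinearIndependent F ![r w, r b, r a] := by
      rw [show ![r w, r b, r a] = Fin.cons (r w) ![r b, r a] from rfl, linearIndependent_finCons]
      refine ⟨li2, ?_⟩
      have : Set.range ![r b, r a] = {r a, r b} := by
        simp [Matrix.range_cons, Matrix.range_empty, Set.pair_comm]
      rw [this]
      exact h1
    simpa using li3.fintype_card_le_finrank
  refine ⟨_, hn, Equiv.ofBijective (fun z => Projectivization.mk F (e (r z)) (hne z))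
    ⟨fun z z' h => ?_, fun q => ?_⟩, fun x y z hxy => ?_⟩
  · obtain ⟨k, hk⟩ := (Projectivization.mk_eq_mk_iff' F _ _ _ _).mp h
    exact hr.inj z z' k (e.injective (by rw [map_smul]; exact hk.symm))
  · obtain ⟨z, k, hk⟩ := hr.surj (e.symm q.rep) (fun h => q.rep_nonzero (by simpa using h))
    refine ⟨z, ?_⟩
    conv_rhs => rw [← q.mk_rep]
    refine ((Projectivization.mk_eq_mk_iff' F _ _ _ _).mpr ⟨k, ?_⟩).symm
    rw [← map_smul, ← hk, e.apply_symm_apply]
  · change _ ↔ (Projectivization.mk F (e (r z)) (hne z)).submodule ≤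
      (Projectivization.mk F (e (r x)) (hne x)).submodule ⊔
      (Projectivization.mk F (e (r y)) (hne y)).submodule
    simp only [Projectivization.submodule_mk]
    rw [hr.line x y z hxy, Submodule.span_singleton_le_iff_mem, ← Submodule.span_insert,
      show ({e (r x), e (r y)} : Set _) = (e : W →ₗ[F] _) '' {r x, r y} by simp [Set.image_pair],
      Submodule.span_image, Submodule.mem_map]
    exact ⟨fun h => ⟨_, h, rfl⟩, fun ⟨u, hu, he⟩ => e.injective he ▸ hu⟩

/-! ### the general case -/

section General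

variable {S} {H : Set X}

theorem exists_coord_big (hH : S.IsHyp H)
    (hbig : ∀ c ∈ H, ∀ d ∈ H, c ≠ d → ∃ e ∈ H, e ∉ S.lam c d) {x y : X} (hxy : x ≠ y)
    (hx : x ∈ H) (hy : y ∈ H) :
    ∃ (F : Type) (_ : Field F) (_ : Fintype F) (n : ℕ), 3 ≤ n ∧
      ∃ φ : X ≃ ℙ F (Fin n → F), S.IsCoord F n φ := by
  classical
  let T := S.transl H
  let _ : CommGroup ↥T :=
    { (inferInstance : Group ↥T) with mul_comm := fun t u => Subtype.ext (transl_comm t.2 u.2) }
  let V := Additive ↥T
  let val : V → G := fun v => ((Additive.toMul v : ↥T) : G)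
  have val_add : ∀ v w, val (v + w) = val v * val w := fun _ _ => rfl
  have val_mem : ∀ v, val v ∈ S.transl H := fun v => (Additive.toMul v).2
  have val_inj : ∀ v w, val v = val w → v = w := fun v w h => Subtype.ext h
  have val_ne : ∀ v, v ≠ 0 → val v ≠ 1 := fun v hv h => hv (val_inj v 0 h)
  let P : X → AddSubgroup V := fun e =>
    { carrier := {v | val v ∈ S.fixIn e H}
      zero_mem' := (S.fixIn e H).one_mem
      add_mem' := fun hv hw => (S.fixIn e H).mul_mem hv hw
      neg_mem' := fun hv => (S.fixIn e H).inv_mem hv }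
  have memP : ∀ e v, v ∈ P e ↔ val v ∈ S.fixIn e H := fun _ _ => Iff.rfl
  have lift : ∀ (e : X) (t : G), e ∈ H → t ∈ S.fixIn e H → ∃ v ∈ P e, val v = t :=
    fun e t he ht => ⟨Additive.ofMul ⟨t, fixIn_le_transl he ht⟩, ht, rfl⟩
  have hcen : ∀ v : V, v ≠ 0 → ∃ e ∈ H, v ∈ P e := fun v hv => hH.mem_transl (val_mem v) (val_ne v hv)
  have cen_unique : ∀ {c d : X} {v : V}, v ≠ 0 → v ∈ P c → v ∈ P d → c = d :=
    fun hv hc hd => fixIn_center_unique (val_ne _ hv) hc hd
  choose cen hcenH hcenP using hcen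
  -- lines at infinity
  have hsplit : ∀ c ∈ H, ∀ d ∈ H, c ≠ d → ∀ e ∈ S.lam c d, P e ≤ P c ⊔ P d := by
    intro c hc d hd hcd e he v hv
    obtain ⟨t, ht, u, hu, htu⟩ := hH.split_mul hc hd hcd he hv
    obtain ⟨v1, hv1, e1⟩ := lift c t hc ht
    obtain ⟨v2, hv2, e2⟩ := lift d u hd hu
    exact AddSubgroup.mem_sup.mpr ⟨v1, hv1, v2, hv2, val_inj _ _ (by rw [val_add, e1, e2, htu])⟩
  have hcenmul : ∀ c ∈ H, ∀ d ∈ H, c ≠ d → ∀ e ∈ H, ∀ v : V, v ≠ 0 → v ∈ P e → v ∈ P c ⊔ P d →
      e ∈ S.lam c d := by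
    intro c hc d hd hcd e he v hv hve hvs
    obtain ⟨v1, hv1, v2, hv2, rfl⟩ := AddSubgroup.mem_sup.mp hvs
    exact hH.center_mul hc hd he hcd hv1 hv2 hve (val_ne _ hv)
  -- the spread
  let sp : V → AddSubgroup V := fun v => if h : v = 0 then ⊥ else P (cen v h)
  have sp0 : sp 0 = ⊥ := dif_pos rfl
  have spP : ∀ {v : V}, v ≠ 0 → ∀ {e : X}, v ∈ P e → sp v = P e := by
    intro v hv e he
    simp only [sp, dif_neg hv]
    rw [cen_unique hv (hcenP v hv) he]
  let Sp : Spread V :=
    { sp := sp
      self_mem := fun v => by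
        rcases eq_or_ne v 0 with rfl | hv
        · exact zero_mem _
        · rw [spP hv (hcenP v hv)]; exact hcenP v hv
      sp_zero := sp0
      sp_eq := fun v w hw hw0 => by
        rcases eq_or_ne v 0 with rfl | hv
        · rw [sp0, AddSubgroup.mem_bot] at hw; exact absurd hw hw0
        · rw [spP hv (hcenP v hv)] at hw ⊢
          exact spP hw0 hw
      plane := fun u v z hz => by
        rcases eq_or_ne z 0 with rfl | hz0
        · rw [sp0]; exact bot_le
        rcases eq_or_ne u 0 with rfl | hu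
        · rcases eq_or_ne v 0 with rfl | hv
          · rw [sp0, bot_sup_eq, AddSubgroup.mem_bot] at hz; exact absurd hz hz0
          · rw [sp0, bot_sup_eq, spP hv (hcenP v hv)] at hz ⊢
            rw [spP hz0 hz]
        rcases eq_or_ne v 0 with rfl | hv
        · rw [sp0, sup_bot_eq, spP hu (hcenP u hu)] at hz ⊢
          rw [spP hz0 hz]
        rw [spP hu (hcenP u hu), spP hv (hcenP v hv)] at hz ⊢
        rw [spP hz0 (hcenP z hz0)]
        by_cases hcd : cen u hu = cen v hv
        · rw [hcd, sup_idem] at hz ⊢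
          rw [cen_unique hz0 (hcenP z hz0) hz]
        · exact hsplit _ (hcenH u hu) _ (hcenH v hv) hcd _
            (hcenmul _ (hcenH u hu) _ (hcenH v hv) hcd _ (hcenH z hz0) z hz0 (hcenP z hz0) hz)
      big := fun u v => by
        have key : ∀ c ∈ H, ∀ d ∈ H, c ≠ d → ∃ z, z ∉ P c ⊔ P d := by
          intro c hc d hd hcd
          obtain ⟨e, he, hel⟩ := hbig c hc d hd hcd
          obtain ⟨t, ht, ht1⟩ := hH.exists_ne_one he
          obtain ⟨z, hz, hzt⟩ := lift e t he ht
          exact ⟨z, fun h => hel (hcenmul c hc d hd hcd e he z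
            (fun h0 => ht1 (by rw [← hzt, h0]; rfl)) hz h)⟩
        have cover : ∀ w : V, ∀ c ∈ H, ∃ d ∈ H, c ≠ d ∧ sp w ≤ P c ⊔ P d := by
          intro w c hc
          by_cases hw : w = 0
          · refine ⟨if c = x then y else x, by split_ifs <;> assumption, ?_, by
              rw [hw, sp0]; exact bot_le⟩
            split_ifs with h
            · exact h ▸ hxy
            · exact h
          · rw [spP hw (hcenP w hw)]
            by_cases hc' : c = cen w hw
            · refine ⟨if c = x then y else x, by split_ifs <;> assumption, ?_,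
                le_sup_of_le_left (by rw [hc'])⟩
              split_ifs with h
              · exact h ▸ hxy
              · exact h
            · exact ⟨_, hcenH w hw, hc', le_sup_right⟩
        obtain ⟨c, hc, hcu⟩ : ∃ c ∈ H, sp u ≤ P c := by
          by_cases hu : u = 0
          · exact ⟨x, hx, by rw [hu, sp0]; exact bot_le⟩
          · exact ⟨_, hcenH u hu, (spP hu (hcenP u hu)).le⟩
        obtain ⟨d, hd, hcd, hdv⟩ := cover v c hc
        obtain ⟨z, hz⟩ := key c hc d hd hcd
        exact ⟨z, fun h => hz (sup_le (hcu.trans le_sup_left) hdv h)⟩ }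
  have : Finite V := Finite.of_injective val val_inj
  obtain ⟨F, iF, iFt, iM, hsp⟩ := Sp.exists_module
  have hsmulP : ∀ {e : X} {v : V}, v ∈ P e → ∀ α : F, α • v ∈ P e := by
    intro e v hv α
    rcases eq_or_ne v 0 with rfl | hv0
    · rw [smul_zero]; exact zero_mem _
    · rw [← spP hv0 hv]; exact (hsp v _ hv0).mpr ⟨α, rfl⟩
  have hPsmul : ∀ {e : X} {v w : V}, v ≠ 0 → v ∈ P e → w ∈ P e → ∃ α : F, α • v = w :=
    fun hv0 hv hw => (hsp _ _ hv0).mp (by rw [show Sp.sp _ = P _ from spP hv0 hv]; exact hw)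
  -- representatives
  obtain ⟨p0, hp0⟩ := hH.proper
  have hpv : ∀ c : X, ∃ v : V, c ∈ H → v ∈ P c ∧ v ≠ 0 := by
    intro c
    by_cases hc : c ∈ H
    · obtain ⟨t, ht, ht1⟩ := hH.exists_ne_one hc
      obtain ⟨z, hz, hzt⟩ := lift c t hc ht
      exact ⟨z, fun _ => ⟨hz, fun h0 => ht1 (by rw [← hzt, h0]; rfl)⟩⟩
    · exact ⟨0, fun h => absurd h hc⟩
  choose pv hpv using hpv
  have htv : ∀ z : X, ∃ v : V, z ∉ H → val v • p0 = z := by
    intro z
    by_cases hz : z ∈ H
    · exact ⟨0, fun h => absurd hz h⟩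
    rcases eq_or_ne p0 z with rfl | hne
    · exact ⟨0, fun _ => one_smul G p0⟩
    obtain ⟨e, he, t, ht, htz⟩ := hH.exists_T hp0 hz hne
    obtain ⟨v, -, hv⟩ := lift e t he ht
    exact ⟨v, fun _ => by rw [hv]; exact htz⟩
  choose tv htv using htv
  let r : X → F × V := fun z => if z ∈ H then (0, pv z) else (1, tv z)
  have rH : ∀ {z}, z ∈ H → r z = (0, pv z) := fun h => if_pos h
  have rO : ∀ {z}, z ∉ H → r z = (1, tv z) := fun h => if_neg h
  -- lines through an affine point
  have key : ∀ {q e : X}, q ∉ H → e ∈ H → ∀ z,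
      (z ∈ S.lam q e ↔ r z ∈ Submodule.span F {r q, r e}) := by
    intro q e hq he z
    have hqe : q ≠ e := fun h => hq (h ▸ he)
    obtain ⟨hpe, hpe0⟩ := hpv e he
    rw [Submodule.mem_span_pair, rO hq, rH he]
    by_cases hz : z ∈ H
    · obtain ⟨hpz, hpz0⟩ := hpv z hz
      rw [rH hz]
      constructor
      · intro h
        rw [hH.unique hqe (S.left_mem_lam hqe) hq h hz (S.right_mem_lam hqe) he]
        exact ⟨0, 1, by simp⟩
      · rintro ⟨α, β, h⟩
        simp only [Prod.smul_mk, Prod.mk_add_mk, Prod.mk.injEq, smul_eq_mul, mul_one, mul_zero,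
          add_zero] at h
        obtain ⟨rfl, h2⟩ := h
        rw [zero_smul, zero_add] at h2
        rw [cen_unique hpz0 hpz (h2 ▸ hsmulP hpe β)]
        exact S.right_mem_lam hqe
    · rw [rO hz]
      have hd : val (tv z - tv q) • q = z := by
        have e1 : val (tv z - tv q) * val (tv q) = val (tv z) := by
          rw [← val_add, sub_add_cancel]
        have e2 := congrArg (· • p0) e1
        simp only [mul_smul, htv q hq, htv z hz] at e2
        exact e2
      constructor
      · intro h
        have hze : z ≠ e := fun h' => hz (h' ▸ he)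
        obtain ⟨t, ht, htq⟩ := hH.trans_T he hq (by rw [S.lam_symm]; exact h) hze
        obtain ⟨w, hw, hwt⟩ := lift e t he ht
        have hweq : tv z - tv q = w :=
          val_inj _ _ (hH.transl_ext (val_mem _) (val_mem _) hq (by rw [hd, hwt, htq]))
        obtain ⟨β, hβ⟩ := hPsmul hpe0 hpe hw
        refine ⟨1, β, ?_⟩
        simp [hβ, ← hweq]
      · rintro ⟨α, β, h⟩
        simp only [Prod.smul_mk, Prod.mk_add_mk, Prod.mk.injEq, smul_eq_mul, mul_one, mul_zero,
          add_zero] at h
        obtain ⟨rfl, h2⟩ := h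
        rw [one_smul] at h2
        have h3 : tv z - tv q ∈ P e := by
          rw [← h2, add_sub_cancel_left]; exact hsmulP hpe β
        rw [← hd, S.lam_symm]
        exact S.smul_mem_lam hqe.symm (mem_fixIn.mp h3).1
  have hinj : ∀ z z', ∀ k : F, r z = k • r z' → z = z' := by
    intro z z' k h
    by_cases hz : z ∈ H <;> by_cases hz' : z' ∈ H
    · rw [rH hz, rH hz', Prod.smul_mk, Prod.mk.injEq] at h
      exact cen_unique (hpv z hz).2 (hpv z hz).1 (h.2 ▸ hsmulP (hpv z' hz').1 k)
    · rw [rH hz, rO hz', Prod.smul_mk, Prod.mk.injEq, smul_eq_mul, mul_one] at h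
      exact absurd (by rw [h.2, ← h.1, zero_smul]) (hpv z hz).2
    · rw [rO hz, rH hz', Prod.smul_mk, Prod.mk.injEq, smul_zero] at h
      exact absurd h.1 one_ne_zero
    · rw [rO hz, rO hz', Prod.smul_mk, Prod.mk.injEq, smul_eq_mul, mul_one] at h
      rw [← htv z hz, h.2, ← h.1, one_smul, htv z' hz']
  have gen : ∀ a b z, a ∉ H → a ≠ b → (z ∈ S.lam a b ↔ r z ∈ Submodule.span F {r a, r b}) := by
    intro a b z ha hab
    obtain ⟨e, he, heH⟩ := hH.meets hab
    have hae : a ≠ e := fun h => ha (h ▸ heH)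
    have hl := S.lam_eq_left hab he hae
    rw [← hl, key ha heH z]
    have hb : r b ∈ Submodule.span F {r a, r e} := (key ha heH b).mp (hl ▸ S.right_mem_lam hab)
    suffices h : Submodule.span F {r a, r b} = Submodule.span F {r a, r e} by rw [h]
    refine le_antisymm (Submodule.span_le.mpr ?_) (Submodule.span_le.mpr ?_)
    · rintro _ (rfl | rfl)
      · exact Submodule.subset_span (by simp)
      · exact hb
    · rintro _ (rfl | rfl)
      · exact Submodule.subset_span (by simp)
      · obtain ⟨α, β, hαβ⟩ := Submodule.mem_span_pair.mp hb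
        have hβ : β ≠ 0 := by
          rintro rfl
          rw [zero_smul, add_zero] at hαβ
          exact hab (hinj b a α hαβ.symm).symm
        refine Submodule.mem_span_pair.mpr ⟨-(β⁻¹ * α), β⁻¹, ?_⟩
        rw [← hαβ, smul_add, smul_smul, smul_smul, inv_mul_cancel₀ hβ, one_smul, neg_smul,
          neg_add_cancel_left]
  have rep : S.IsRep F (F × V) r :=
    { ne_zero := fun z h => by
        by_cases hz : z ∈ H
        · rw [rH hz] at h; exact (hpv z hz).2 (Prod.mk.inj h).2
        · rw [rO hz] at h; exact one_ne_zero (Prod.mk.inj h).1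
      inj := hinj
      surj := fun ⟨α, v⟩ hv => by
        by_cases hα : α = 0
        · subst hα
          have hv0 : v ≠ 0 := fun h => hv (by rw [h]; rfl)
          obtain ⟨k, hk⟩ := hPsmul (hpv _ (hcenH v hv0)).2 (hpv _ (hcenH v hv0)).1 (hcenP v hv0)
          exact ⟨_, k, by rw [rH (hcenH v hv0), Prod.smul_mk, smul_zero, hk]⟩
        · set u : V := α⁻¹ • v with hu
          have hz : val u • p0 ∉ H := hH.not_mem_of_fix (fun h hh => transl_fix (val_mem u) hh) hp0
          refine ⟨val u • p0, α, ?_⟩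
          have htu : tv (val u • p0) = u :=
            val_inj _ _ (hH.transl_ext (val_mem _) (val_mem _) hp0 (htv _ hz))
          rw [rO hz, htu, Prod.smul_mk, smul_eq_mul, mul_one, hu, smul_smul, mul_inv_cancel₀ hα,
            one_smul]
      line := fun a b z hab => by
        by_cases ha : a ∈ H
        · by_cases hb : b ∈ H
          · obtain ⟨hpa, hpa0⟩ := hpv a ha
            obtain ⟨hpb, hpb0⟩ := hpv b hb
            rw [Submodule.mem_span_pair, rH ha, rH hb]
            by_cases hz : z ∈ H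
            · obtain ⟨hpz, hpz0⟩ := hpv z hz
              rw [rH hz]
              constructor
              · intro h
                obtain ⟨v1, h1, v2, h2, e⟩ :=
                  AddSubgroup.mem_sup.mp (hsplit a ha b hb hab z h hpz)
                obtain ⟨α, hα⟩ := hPsmul hpa0 hpa h1
                obtain ⟨β, hβ⟩ := hPsmul hpb0 hpb h2
                exact ⟨α, β, by simp [hα, hβ, e]⟩
              · rintro ⟨α, β, h⟩
                simp only [Prod.smul_mk, Prod.mk_add_mk, Prod.mk.injEq] at h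
                exact hcenmul a ha b hb hab z hz _ hpz0 hpz (h.2 ▸
                  add_mem (AddSubgroup.mem_sup_left (hsmulP hpa α))
                    (AddSubgroup.mem_sup_right (hsmulP hpb β)))
            · rw [rO hz]
              refine iff_of_false (fun h => hz (hH.closed ha hb hab h)) ?_
              rintro ⟨α, β, h⟩
              simp only [Prod.smul_mk, Prod.mk_add_mk, Prod.mk.injEq, smul_zero, add_zero] at h
              exact one_ne_zero h.1.symm
          · rw [← S.lam_symm, gen b a z hb hab.symm, Set.pair_comm]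
        · exact gen a b z ha hab }
  obtain ⟨n, hn, φ, hφ⟩ := S.coord_of_rep rep hxy
  exact ⟨F, iF, iFt, n, hn, φ, hφ⟩

end General

/-! ### the plane case -/

theorem isHyp_smul {H : Set X} (hH : S.IsHyp H) (g : G) : S.IsHyp {z | g • z ∈ H} := by
  refine ⟨fun {a b} ha hb hab z hz => ?_, ?_, fun {a b} hab => ?_⟩
  · exact hH.closed ha hb (fun h => hab (smul_left_cancel g h)) (S.smul_lam hab g hz)
  · obtain ⟨q, hq⟩ := hH.proper
    exact ⟨g⁻¹ • q, by simpa using hq⟩
  · obtain ⟨e, he, heH⟩ := hH.meets (fun h : g • a = g • b => hab (smul_left_cancel g h))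
    refine ⟨g⁻¹ • e, ?_, by simpa using heH⟩
    rw [← S.smul_lam_iff hab g, smul_inv_smul]
    exact he

theorem lam_smul_eq {a b : X} (hab : a ≠ b) (g : G) :
    {z | g • z ∈ S.lam (g • a) (g • b)} = S.lam a b := by
  ext z; exact S.smul_lam_iff hab g

/-- the lines, as a type -/
def Line : Type _ := {l : Set X // ∃ a b, a ≠ b ∧ l = S.lam a b}

theorem exists_coord_plane {x y : X} (hxy : x ≠ y) (hH : S.IsHyp (S.lam x y)) :
    ∃ (F : Type) (_ : Field F) (_ : Fintype F) (n : ℕ), 3 ≤ n ∧
      ∃ φ : X ≃ ℙ F (Fin n → F), S.IsCoord F n φ := by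
  classical
  have hall : ∀ {a b : X}, a ≠ b → S.IsHyp (S.lam a b) := by
    intro a b hab
    obtain ⟨g, hga, hgb⟩ := S.tt a b x y hab hxy
    have h := S.isHyp_smul hH g
    rw [← hga, ← hgb, S.lam_smul_eq hab g] at h
    exact h
  let _ : Membership X S.Line := ⟨fun l z => z ∈ l.1⟩
  have hmem : ∀ (z : X) (l : S.Line), z ∈ l ↔ z ∈ l.1 := fun _ _ => Iff.rfl
  let mkL : ∀ {a b : X}, a ≠ b → S.Line := fun {a b} h => ⟨S.lam a b, a, b, h, rfl⟩
  have huniq : ∀ {a b : X} {l : S.Line}, a ≠ b → a ∈ l → b ∈ l → l.1 = S.lam a b := by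
    intro a b l hab ha hb
    obtain ⟨c, d, hcd, hl⟩ := l.2
    rw [hmem, hl] at ha hb
    rw [hl, S.lam_eq hcd ha hb hab]
  obtain ⟨w, hw⟩ := S.exists_off hxy
  obtain ⟨hxw, hyw, hy', hx'⟩ := S.tri hxy hw
  have nd : Configuration.Nondegenerate X S.Line :=
    { exists_point := fun l => by
        obtain ⟨c, d, hcd, hl⟩ := l.2
        obtain ⟨q, hq⟩ := S.exists_off hcd
        exact ⟨q, fun h => hq (hl ▸ h)⟩
      exists_line := fun q => by
        by_cases hq : q ∈ S.lam x y
        · by_cases hqx : q = x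
          · exact ⟨mkL hyw, fun h => hx' (hqx ▸ h)⟩
          · refine ⟨mkL hxw, fun h => ?_⟩
            have e1 := S.lam_eq_left hxy hq (Ne.symm hqx)
            have e2 := S.lam_eq_left hxw h (Ne.symm hqx)
            exact hy' (by rw [← e2, e1]; exact S.right_mem_lam hxy)
        · exact ⟨mkL hxy, hq⟩
      eq_or_eq := fun {a b l l'} h1 h2 h3 h4 => by
        by_cases hab : a = b
        · exact Or.inl hab
        · exact Or.inr (Subtype.ext ((huniq hab h1 h2).trans (huniq hab h3 h4).symm)) }
  have hmeet : ∀ l l' : S.Line, ∃ q, q ∈ l ∧ q ∈ l' := by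
    intro l l'
    obtain ⟨a, b, hab, hl⟩ := l.2
    obtain ⟨c, d, hcd, hl'⟩ := l'.2
    obtain ⟨e, he, he'⟩ := (hall hcd).meets hab
    exact ⟨e, show e ∈ l.1 by rw [hl]; exact he, show e ∈ l'.1 by rw [hl']; exact he'⟩
  choose meet hmeet1 hmeet2 using hmeet
  let _ : Configuration.ProjectivePlane X S.Line :=
    { nd with
      mkPoint := fun {l l'} _ => meet l l'
      mkPoint_ax := fun {l l'} _ => ⟨hmeet1 l l', hmeet2 l l'⟩
      mkLine := fun h => mkL h
      mkLine_ax := fun h => ⟨S.left_mem_lam h, S.right_mem_lam h⟩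
      exists_config := by
        obtain ⟨u, hu, huy, huw⟩ := S.exists_third hyw
        obtain ⟨v, hv, hvx, hvw⟩ := S.exists_third hxw
        have hxu : x ≠ u := fun h => hx' (h ▸ hu)
        have hyv : y ≠ v := fun h => hy' (h ▸ hv)
        refine ⟨x, y, w, mkL hxu, mkL hyw, mkL hyv, hx', fun h => ?_, fun h => ?_,
          S.left_mem_lam hyw, S.left_mem_lam hyv, fun h => ?_, S.right_mem_lam hyw, fun h => ?_⟩
        · -- `x` not on `y v`
          have h' : v ∈ S.lam x y := by
            rw [S.lam_symm]; exact S.mem_lam_swap hyv h hxy.symm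
          exact hw ((S.lam_eq_left hxy h' hvx.symm).symm.trans (S.lam_eq_left hxw hv hvx.symm) ▸
            S.right_mem_lam hxw)
        · -- `y` not on `x u`
          have h' : u ∈ S.lam y x := by
            rw [S.lam_symm]; exact S.mem_lam_swap hxu h hxy
          exact hw (by
            rw [S.lam_symm, ← S.lam_eq_left hxy.symm h' huy.symm, S.lam_eq_left hyw hu huy.symm]
            exact S.right_mem_lam hyw)
        · -- `w` not on `x u`
          have h' : u ∈ S.lam w x := by
            rw [S.lam_symm]; exact S.mem_lam_swap hxu h hxw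
          have e1 := S.lam_eq_left hxw.symm h' huw.symm
          have e2 := S.lam_eq_left hyw.symm (by rw [S.lam_symm]; exact hu) huw.symm
          exact hy' (by rw [← S.lam_symm x w, ← e1, e2]; exact S.right_mem_lam hyw.symm)
        · -- `w` not on `y v`
          have h' : v ∈ S.lam w y := by
            rw [S.lam_symm]; exact S.mem_lam_swap hyv h hyw
          have e1 := S.lam_eq_left hyw.symm h' hvw.symm
          have e2 := S.lam_eq_left hxw.symm (by rw [S.lam_symm]; exact hv) hvw.symm
          exact hy' (by rw [← S.lam_symm x w, ← e2, e1]; exact S.right_mem_lam hyw.symm) }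
  let τ : G → Equiv.Perm S.Line := fun g =>
    { toFun := fun l => ⟨(g • ·) '' l.1, by
        obtain ⟨a, b, hab, hl⟩ := l.2
        refine ⟨g • a, g • b, fun h => hab (smul_left_cancel g h), ?_⟩
        rw [hl]
        ext z
        refine ⟨?_, fun h => ⟨g⁻¹ • z, ?_, smul_inv_smul g z⟩⟩
        · rintro ⟨q, hq, rfl⟩; exact S.smul_lam hab g hq
        · rw [← S.smul_lam_iff hab g, smul_inv_smul]; exact h⟩
      invFun := fun l => ⟨(g⁻¹ • ·) '' l.1, by
        obtain ⟨a, b, hab, hl⟩ := l.2
        refine ⟨g⁻¹ • a, g⁻¹ • b, fun h => hab (smul_left_cancel g⁻¹ h), ?_⟩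
        rw [hl]
        ext z
        refine ⟨?_, fun h => ⟨g • z, ?_, inv_smul_smul g z⟩⟩
        · rintro ⟨q, hq, rfl⟩; exact S.smul_lam hab g⁻¹ hq
        · rw [← S.smul_lam_iff hab g⁻¹, inv_smul_smul]; exact h⟩
      left_inv := fun l => Subtype.ext (by simp [Set.image_image])
      right_inv := fun l => Subtype.ext (by simp [Set.image_image]) }
  have : Finite S.Line := Subtype.finite
  let _ : Fintype S.Line := Fintype.ofFinite _
  let _ : Fintype X := Fintype.ofFinite _
  obtain ⟨F, iF, iFt, φ, h1, -⟩ := H29.OW.desarguesian (P := X) (L := S.Line)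
    (fun p₁ p₂ q₁ q₂ hp hq => by
      obtain ⟨g, g1, g2⟩ := S.tt p₁ p₂ q₁ q₂ hp hq
      refine ⟨MulAction.toPerm g, τ g, fun q l => ?_, g1, g2⟩
      exact (MulAction.injective g).mem_set_image)
  refine ⟨F, iF, iFt, 3, le_rfl, φ, fun a b z hab => ?_⟩
  obtain ⟨W, hW, hWl⟩ := h1 (mkL hab)
  have hsup : (φ a).submodule ⊔ (φ b).submodule = W := by
    refine Submodule.eq_of_le_of_finrank_le
      (sup_le ((hWl a).mp (S.left_mem_lam hab)) ((hWl b).mp (S.right_mem_lam hab))) ?_
    rw [hW]
    by_contra hlt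
    push Not at hlt
    have h2 := (φ a).finrank_submodule
    have e := Submodule.eq_of_le_of_finrank_le (le_sup_left : (φ a).submodule ≤ _ ⊔ (φ b).submodule)
      (by omega)
    have e' := Submodule.eq_of_le_of_finrank_le (le_sup_right : (φ b).submodule ≤ (φ a).submodule ⊔ _)
      (by rw [(φ b).finrank_submodule]; omega)
    exact hab (φ.injective (Projectivization.submodule_injective (e.trans e'.symm)))
  rw [hsup]
  exact hWl z

theorem exists_coord {a b : X} (hab : a ≠ b) :
    ∃ (F : Type) (_ : Field F) (_ : Fintype F) (n : ℕ), 3 ≤ n ∧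
      ∃ φ : X ≃ ℙ F (Fin n → F), S.IsCoord F n φ := by
  obtain ⟨n0, hn0, hn01⟩ := S.exists_nb hab
  obtain ⟨hn0N, hn0b⟩ := S.mem_nb.mp hn0
  have hH := S.isHyp_fixed hn0N hn01
  set H := {z : X | n0 • z = z} with hHdef
  have ha : a ∈ H := S.le_stab a n0 hn0N
  have hb : b ∈ H := hn0b
  by_cases hbig : ∃ e ∈ H, e ∉ S.lam a b
  · obtain ⟨e, he, hel⟩ := hbig
    refine exists_coord_big hH (fun c hc d hd hcd => ?_) hab ha hb
    by_contra hno
    push Not at hno
    exact hel (S.lam_eq hcd (hno a ha) (hno b hb) hab ▸ hno e he)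
  · push Not at hbig
    have : H = S.lam a b := Set.Subset.antisymm hbig (hH.closed ha hb hab)
    exact S.exists_coord_plane hab (this ▸ hH)

end Setup

end Cfsg.Agent.H70.ONan
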