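import Cfsg.Agent.H70.ONan.Triangle

/-!
Hyperplanes (fixed point sets) and their translation groups.
-/

set_option autoImplicit false
set_option linter.unusedSectionVars false

namespace Cfsg.Agent.H70.ONan

open MulAction

variable {p : ℕ} {G X : Type*} [Group G] [MulAction G X] [FaithfulSMul G X] [Finite G] [Finite X]
  [Fact p.Prime] (S : Setup p G X)

theorem orbit_card (Q : Subgroup G) (b : X) :
    {z : X | ∃ n ∈ Q, n • b = z}.ncard * Nat.card ↥(Q ⊓ stabilizer G b) = Nat.card Q := by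
  have h1 : {z : X | ∃ n ∈ Q, n • b = z} = MulAction.orbit ↥Q b := by
    ext z; simp [MulAction.mem_orbit_iff, Subgroup.smul_def]
  have h2 : Nat.card ↥(Q ⊓ stabilizer G b) = Nat.card (MulAction.stabilizer ↥Q b) :=
    Nat.card_congr
      { toFun := fun n => ⟨⟨n, n.2.1⟩, n.2.2⟩
        invFun := fun n => ⟨n.1.1, n.1.2, n.2⟩
        left_inv := fun _ => rfl
        right_inv := fun _ => rfl }
  rw [h1, h2, mul_comm, ← MulAction.index_stabilizer, Subgroup.card_mul_index]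

namespace Setup

/-- closed, proper, meeting every line -/
structure IsHyp (H : Set X) : Prop where
  closed : ∀ {a b : X}, a ∈ H → b ∈ H → a ≠ b → S.lam a b ⊆ H
  proper : ∃ q, q ∉ H
  meets : ∀ {a b : X}, a ≠ b → ∃ e ∈ S.lam a b, e ∈ H

/-- fixed point sets are hyperplanes -/
theorem isHyp_fixed {a : X} {n : G} (hn : n ∈ S.N a) (h1 : n ≠ 1) :
    S.IsHyp {z | n • z = z} := by
  refine ⟨fun hu hw huw z hz => S.fix_line huw hn hu hw hz, ?_, fun {y w} hyw => ?_⟩
  · by_contra hc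
    push Not at hc
    exact h1 (eq_one_of_fix hc)
  · by_cases ha : a ∈ S.lam y w
    · exact ⟨a, ha, S.le_stab a n hn⟩
    · have hay : a ≠ y := fun h => ha (by rw [h]; exact S.left_mem_lam hyw)
      have hw : w ∉ S.lam a y := fun h => ha (by
        rw [S.lam_symm] at h
        exact S.mem_lam_swap hay.symm h hyw)
      exact S.tri_cover hay hw n hn

variable {S} {H : Set X}

theorem IsHyp.unique (hH : S.IsHyp H) {a b e e' : X} (hab : a ≠ b) {q : X} (hq : q ∈ S.lam a b)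
    (hqH : q ∉ H) (he : e ∈ S.lam a b) (heH : e ∈ H) (he' : e' ∈ S.lam a b) (he'H : e' ∈ H) :
    e = e' := by
  by_contra hne
  exact hqH (hH.closed heH he'H hne (S.lam_eq hab he he' hne ▸ hq))

theorem IsHyp.smul_mem (hH : S.IsHyp H) {w : X} (hw : w ∈ H) {n : G} (hn : n ∈ S.N w) {z : X}
    (hz : z ∈ H) : n • z ∈ H := by
  rcases eq_or_ne w z with rfl | hwz
  · rw [S.le_stab w n hn]; exact hw
  · exact hH.closed hw hz hwz (S.smul_mem_lam hwz hn)

theorem IsHyp.not_mem_of_fix (_hH : S.IsHyp H) {g : G} (hg : ∀ h ∈ H, g • h = h) {q : X}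
    (hq : q ∉ H) : g • q ∉ H := fun h => hq (by
  rwa [smul_left_cancel g (hg _ h)] at h)

/-- elements of `N c` fixing a given set -/
def fixIn (S : Setup p G X) (c : X) (A : Set X) : Subgroup G := S.N c ⊓ fixingSubgroup G A

theorem mem_fixIn {c : X} {A : Set X} {n : G} :
    n ∈ S.fixIn c A ↔ n ∈ S.N c ∧ ∀ h ∈ A, n • h = h := by
  simp [fixIn, mem_fixingSubgroup_iff]

theorem IsHyp.fixIn_trans_finset (hH : S.IsHyp H) {c : X} (hc : c ∈ H) (A : Finset X) :
    (↑A ⊆ H) → ∀ b ∉ H, ∀ z ∈ S.lam c b, z ≠ c → ∃ n ∈ S.fixIn c ↑A, n • b = z := by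
  classical
  induction A using Finset.induction_on with
  | empty =>
    intro _ b hb z hz hzc
    obtain ⟨n, hn, he⟩ := S.trans (fun h : c = b => hb (h ▸ hc)) hz hzc
    exact ⟨n, mem_fixIn.mpr ⟨hn, by simp⟩, he⟩
  | insert h A _ ih =>
    intro hA b hb z hz hzc
    rw [Finset.coe_insert, Set.insert_subset_iff] at hA
    have ih' := ih hA.2
    rcases eq_or_ne h c with rfl | hhc
    · obtain ⟨n, hn, he⟩ := ih' b hb z hz hzc
      obtain ⟨hn1, hn2⟩ := mem_fixIn.mp hn
      refine ⟨n, mem_fixIn.mpr ⟨hn1, ?_⟩, he⟩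
      rw [Finset.coe_insert]
      rintro x (rfl | hx)
      · exact S.le_stab _ n hn1
      · exact hn2 x hx
    · have hhb : b ≠ h := fun e => hb (e ▸ hA.1)
      have hcb : c ≠ b := fun e => hb (e ▸ hc)
      have hhcb : h ∉ S.lam c b := fun e =>
        hhc (hH.unique hcb (S.right_mem_lam hcb) hb e hA.1 (S.left_mem_lam hcb) hc)
      set Q := S.fixIn c (↑A : Set X) with hQ
      set s := (S.lam c b \ {c}).ncard with hs
      have key : ∀ t : X, t ∉ H → s * Nat.card ↥(Q ⊓ stabilizer G t) = Nat.card Q := by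
        intro t ht
        have hct : c ≠ t := fun e => ht (e ▸ hc)
        have horb : {z : X | ∃ n ∈ Q, n • t = z} = S.lam c t \ {c} := by
          refine Set.Subset.antisymm ?_ ?_
          · rintro _ ⟨n, hn, rfl⟩
            exact S.orb_subset hct ⟨n, (mem_fixIn.mp hn).1, rfl⟩
          · rintro u ⟨hu, huc⟩
            exact ih' t ht u hu huc
        rw [← orbit_card Q t, horb, hs]
        congr 1
        have e1 := Set.ncard_sdiff_singleton_add_one (S.left_mem_lam hcb) (Set.toFinite _)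
        have e2 := Set.ncard_sdiff_singleton_add_one (S.left_mem_lam hct) (Set.toFinite _)
        have e3 := S.lam_ncard hcb hct
        omega
      let L : Finset X := (S.lam b h).toFinite.toFinset
      have hL : ∀ u, u ∈ L ↔ u ∈ S.lam b h := fun u => Set.Finite.mem_toFinset _
      have hhL : h ∈ L := (hL h).mpr (S.right_mem_lam hhb)
      have houtL : ∀ t ∈ L, t ≠ h → t ∉ H := fun t ht hth htH =>
        hth (hH.unique hhb (S.left_mem_lam hhb) hb ((hL t).mp ht) htH (S.right_mem_lam hhb) hA.1)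
      set B := Q ⊓ stabilizer G b ⊓ stabilizer G h with hB
      have hBle : ∀ t ∈ L, B ≤ Q ⊓ stabilizer G t := by
        intro t ht n hn
        obtain ⟨⟨h1, h2⟩, h3⟩ := hn
        exact ⟨h1, S.fix_line hhb (mem_fixIn.mp h1).1 h2 h3 ((hL t).mp ht)⟩
      obtain ⟨-, c2, -⟩ := count_ineq Q B L (fun t => Q ⊓ stabilizer G t) (fun t _ => inf_le_left)
        hBle (inf_le_left.trans inf_le_left) (by
          intro t ht u hu htu n hn
          obtain ⟨⟨h1, h2⟩, -, h3⟩ := hn
          have e := S.lam_eq hhb ((hL t).mp ht) ((hL u).mp hu) htu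
          exact ⟨⟨h1, S.fix_line htu (mem_fixIn.mp h1).1 h2 h3 (e ▸ S.left_mem_lam hhb)⟩,
            S.fix_line htu (mem_fixIn.mp h1).1 h2 h3 (e ▸ S.right_mem_lam hhb)⟩)
      have c2' := c2 (fun q hq => by
        obtain ⟨t, ht, he⟩ := S.tri_cover hcb hhcb q (mem_fixIn.mp hq).1
        exact ⟨t, (hL t).mpr ht, hq, he⟩) ⟨h, hhL⟩
      have hsum : (∑ t ∈ L, Nat.card ↥(Q ⊓ stabilizer G t))
          = Nat.card ↥(Q ⊓ stabilizer G h) + (L.card - 1) * Nat.card ↥(Q ⊓ stabilizer G b) := by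
        rw [← Finset.add_sum_erase L _ hhL]
        congr 1
        rw [← Finset.card_erase_of_mem hhL, ← smul_eq_mul, ← Finset.sum_const]
        refine Finset.sum_congr rfl fun t ht => ?_
        have hne := (Finset.mem_erase.mp ht)
        have hs0 : 0 < s := by
          rw [hs, Set.ncard_pos]
          exact ⟨b, S.right_mem_lam hcb, hcb.symm⟩
        exact Nat.eq_of_mul_eq_mul_left hs0
          ((key t (houtL t hne.2 hne.1)).trans (key b hb).symm)
      have hLs : L.card = s + 1 := by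
        rw [hs, Set.ncard_sdiff_singleton_add_one (S.left_mem_lam hcb) (Set.toFinite _),
          S.lam_ncard hhb hcb, Set.ncard_eq_toFinset_card _ (S.lam b h).toFinite]
      rw [hsum, hLs, ← key b hb, Nat.add_sub_cancel] at c2'
      set Q' := Q ⊓ stabilizer G h with hQ'
      have hQ'B : Q' ⊓ stabilizer G b = B := by rw [hQ', hB, inf_right_comm]
      have horb' := orbit_card Q' b
      rw [hQ'B] at horb'
      have hcard : {z : X | ∃ n ∈ Q', n • b = z}.ncard = s := by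
        refine Nat.eq_of_mul_eq_mul_right (Nat.card_pos (α := B)) (horb'.trans ?_)
        have : (s + 1) * Nat.card B = s * Nat.card B + Nat.card B := by ring
        omega
      have hsub : {z : X | ∃ n ∈ Q', n • b = z} ⊆ S.lam c b \ {c} := by
        rintro _ ⟨n, hn, rfl⟩
        exact S.orb_subset hcb ⟨n, (mem_fixIn.mp (Subgroup.mem_inf.mp hn).1).1, rfl⟩
      have heq := Set.eq_of_subset_of_ncard_le hsub (by rw [hcard]) (Set.toFinite _)
      obtain ⟨n, hn, he⟩ : z ∈ {z : X | ∃ n ∈ Q', n • b = z} := heq ▸ ⟨hz, hzc⟩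
      obtain ⟨hnQ, hnh⟩ := Subgroup.mem_inf.mp hn
      obtain ⟨hn1, hn2⟩ := mem_fixIn.mp hnQ
      refine ⟨n, mem_fixIn.mpr ⟨hn1, ?_⟩, he⟩
      rw [Finset.coe_insert]
      rintro x (rfl | hx)
      · exact hnh
      · exact hn2 x hx

theorem IsHyp.trans_T (hH : S.IsHyp H) {c : X} (hc : c ∈ H) {b z : X} (hb : b ∉ H)
    (hz : z ∈ S.lam c b) (hzc : z ≠ c) : ∃ n ∈ S.fixIn c H, n • b = z := by
  have h := hH.fixIn_trans_finset hc H.toFinite.toFinset (by simp) b hb z hz hzc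
  rwa [Set.Finite.coe_toFinset] at h

theorem IsHyp.fixIn_free (hH : S.IsHyp H) {c : X} {n : G} (hn : n ∈ S.fixIn c H) {b : X}
    (hb : b ∉ H) (hnb : n • b = b) : n = 1 := by
  apply eq_one_of_fix (X := X)
  intro z
  obtain ⟨hn1, hn2⟩ := mem_fixIn.mp hn
  rcases eq_or_ne b z with rfl | hbz
  · exact hnb
  · obtain ⟨e, he, heH⟩ := hH.meets hbz
    have hbe : b ≠ e := fun h => hb (h ▸ heH)
    refine S.fix_line hbe hn1 hnb (hn2 e heH) ?_
    rw [S.lam_eq_left hbz he hbe]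
    exact S.right_mem_lam hbz

theorem fixIn_comm {c d : X} (hc : c ∈ H) (hd : d ∈ H) {t u : G} (ht : t ∈ S.fixIn c H)
    (hu : u ∈ S.fixIn d H) : t * u = u * t := by
  obtain ⟨t1, t2⟩ := mem_fixIn.mp ht
  obtain ⟨u1, u2⟩ := mem_fixIn.mp hu
  rcases eq_or_ne c d with rfl | hcd
  · exact S.comm c t u t1 u1
  · exact S.comm_cross hcd (S.mem_nb.mpr ⟨t1, t2 d hd⟩) (S.mem_nb.mpr ⟨u1, u2 c hc⟩)

/-- the translation group of a hyperplane -/
def transl (S : Setup p G X) (H : Set X) : Subgroup G := ⨆ c ∈ H, S.fixIn c H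

theorem fixIn_le_transl {c : X} (hc : c ∈ H) : S.fixIn c H ≤ S.transl H :=
  le_iSup₂_of_le c hc le_rfl

theorem transl_fix {t : G} (ht : t ∈ S.transl H) {h : X} (hh : h ∈ H) : t • h = h := by
  have : S.transl H ≤ fixingSubgroup G H := iSup₂_le fun c _ => inf_le_right
  exact (mem_fixingSubgroup_iff G).mp (this ht) h hh

theorem transl_comm {t u : G} (ht : t ∈ S.transl H) (hu : u ∈ S.transl H) : t * u = u * t := by
  have h1 : S.transl H ≤ Subgroup.centralizer (S.transl H : Set G) := by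
    refine iSup₂_le fun c hc => ?_
    rw [Subgroup.le_centralizer_iff]
    refine iSup₂_le fun d hd v hv => Subgroup.mem_centralizer_iff.mpr fun w hw => ?_
    exact fixIn_comm hc hd hw hv
  exact (Subgroup.mem_centralizer_iff.mp (h1 hu) t ht)

theorem IsHyp.nonempty (hH : S.IsHyp H) {a b : X} (hab : a ≠ b) : ∃ e, e ∈ H := by
  obtain ⟨e, -, he⟩ := hH.meets hab
  exact ⟨e, he⟩

/-- the translation group is transitive outside the hyperplane -/
theorem IsHyp.exists_T (hH : S.IsHyp H) {u q : X} (hu : u ∉ H) (hq : q ∉ H) (huq : u ≠ q) :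
    ∃ e ∈ H, ∃ t ∈ S.fixIn e H, t • u = q := by
  obtain ⟨e, he, heH⟩ := hH.meets huq
  have heu : e ≠ u := fun h => hu (h ▸ heH)
  refine ⟨e, heH, hH.trans_T heH hu ?_ (fun h => hq (h ▸ heH))⟩
  rw [S.lam_symm]
  exact S.mem_lam_swap huq he heu.symm

theorem IsHyp.transl_free (hH : S.IsHyp H) {t : G} (ht : t ∈ S.transl H) {u : X} (hu : u ∉ H)
    (htu : t • u = u) : t = 1 := by
  apply eq_one_of_fix (X := X)
  intro z
  by_cases hz : z ∈ H
  · exact transl_fix ht hz
  · rcases eq_or_ne u z with rfl | huz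
    · exact htu
    · obtain ⟨e, he, v, hv, rfl⟩ := hH.exists_T hu hz huz
      rw [← mul_smul, transl_comm ht (fixIn_le_transl he hv), mul_smul, htu]

theorem IsHyp.transl_ext (hH : S.IsHyp H) {t v : G} (ht : t ∈ S.transl H) (hv : v ∈ S.transl H)
    {u : X} (hu : u ∉ H) (h : t • u = v • u) : t = v := by
  refine inv_mul_eq_one.mp (hH.transl_free (mul_mem (inv_mem ht) hv) hu ?_)
  rw [mul_smul, ← h, inv_smul_smul]

theorem IsHyp.mem_transl (hH : S.IsHyp H) {t : G} (ht : t ∈ S.transl H) (h1 : t ≠ 1) :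
    ∃ e ∈ H, t ∈ S.fixIn e H := by
  obtain ⟨u, hu⟩ := hH.proper
  obtain ⟨e, he, v, hv, hvu⟩ := hH.exists_T hu (hH.not_mem_of_fix (fun h hh => transl_fix ht hh) hu)
    (fun h => h1 (hH.transl_free ht hu h.symm))
  exact ⟨e, he, by rwa [hH.transl_ext ht (fixIn_le_transl he hv) hu hvu.symm]⟩

theorem fixIn_disj {c d : X} (hcd : c ≠ d) {t : G} (hc : t ∈ S.fixIn c H) (hd : t ∈ S.fixIn d H) :
    t = 1 :=
  S.eq_one_of_mem hcd (mem_fixIn.mp hc).1 (mem_fixIn.mp hd).1

theorem fixIn_center_unique {c d : X} {t : G} (h1 : t ≠ 1) (hc : t ∈ S.fixIn c H)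
    (hd : t ∈ S.fixIn d H) : c = d := by
  by_contra hcd
  exact h1 (fixIn_disj hcd hc hd)

theorem IsHyp.fixIn_moves (hH : S.IsHyp H) {c : X} {t : G} (ht : t ∈ S.fixIn c H) (h1 : t ≠ 1)
    {u : X} (hu : u ∉ H) : t • u ≠ u ∧ t • u ∉ H :=
  ⟨fun h => h1 (hH.fixIn_free ht hu h), hH.not_mem_of_fix (mem_fixIn.mp ht).2 hu⟩

/-- the centre of a product lies on the line of the centres -/
theorem IsHyp.center_mul (hH : S.IsHyp H) {c d e : X} (hc : c ∈ H) (hd : d ∈ H) (he : e ∈ H)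
    (hcd : c ≠ d) {t u : G} (ht : t ∈ S.fixIn c H) (hu : u ∈ S.fixIn d H)
    (htu : t * u ∈ S.fixIn e H) (h1 : t * u ≠ 1) : e ∈ S.lam c d := by
  by_cases ht1 : t = 1
  · subst ht1
    rw [one_mul] at htu h1
    rw [fixIn_center_unique h1 htu hu]
    exact S.right_mem_lam hcd
  by_cases hu1 : u = 1
  · subst hu1
    rw [mul_one] at htu h1
    rw [fixIn_center_unique h1 htu ht]
    exact S.left_mem_lam hcd
  obtain ⟨a, ha⟩ := hH.proper
  obtain ⟨hbne, hb⟩ := hH.fixIn_moves hu hu1 ha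
  set b := u • a with hbdef
  obtain ⟨hqb, hq⟩ := hH.fixIn_moves ht ht1 hb
  set q := t • b with hqdef
  have hqa : q ≠ a := fun h => h1 (hH.fixIn_free htu ha (by rw [mul_smul]; exact h))
  have hda : d ≠ a := fun h => ha (h ▸ hd)
  have hcb : c ≠ b := fun h => hb (h ▸ hc)
  have hea : e ≠ a := fun h => ha (h ▸ he)
  have hdb : d ∈ S.lam b a := by
    have h : b ∈ S.lam a d := by
      rw [S.lam_symm]; exact S.smul_mem_lam hda (mem_fixIn.mp hu).1
    rw [S.lam_symm]
    exact S.mem_lam_swap hda.symm h hbne.symm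
  have hcq : c ∈ S.lam b q := by
    have h : q ∈ S.lam b c := by rw [S.lam_symm]; exact S.smul_mem_lam hcb (mem_fixIn.mp ht).1
    exact S.mem_lam_swap hcb.symm h hqb.symm
  have hqline : q ∉ S.lam b a := fun h => hcd (hH.unique hbne (S.left_mem_lam hbne) hb
    (by rw [← S.lam_eq_left hbne h hqb.symm]; exact hcq) hc hdb hd)
  obtain ⟨-, z, hz1, hz2⟩ := S.veblen hbne hqline hdb (fun h => hb (h ▸ hd)) hcq
    (fun h => hb (h ▸ hc))
  have hzH : z ∈ H := hH.closed hd hc hcd.symm hz2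
  have heq' : e ∈ S.lam a q := by
    have h : q ∈ S.lam a e := by
      rw [S.lam_symm, hqdef, hbdef, ← mul_smul]
      exact S.smul_mem_lam hea (mem_fixIn.mp htu).1
    exact S.mem_lam_swap hea.symm h hqa.symm
  rw [hH.unique hqa.symm (S.left_mem_lam hqa.symm) ha heq' he hz1 hzH, S.lam_symm]
  exact hz2

/-- a translation with centre on `c d` is a product of translations with centres `c` and `d` -/
theorem IsHyp.split_mul (hH : S.IsHyp H) {c d e : X} (hc : c ∈ H) (hd : d ∈ H) (hcd : c ≠ d)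
    (he : e ∈ S.lam c d) {r : G} (hr : r ∈ S.fixIn e H) :
    ∃ t ∈ S.fixIn c H, ∃ u ∈ S.fixIn d H, r = t * u := by
  rcases eq_or_ne e c with rfl | hec
  · exact ⟨r, hr, 1, one_mem _, (mul_one r).symm⟩
  rcases eq_or_ne e d with rfl | hed
  · exact ⟨1, one_mem _, r, hr, (one_mul r).symm⟩
  by_cases hr1 : r = 1
  · exact ⟨1, one_mem _, 1, one_mem _, by rw [hr1, one_mul]⟩
  have heH : e ∈ H := hH.closed hc hd hcd he
  obtain ⟨a, ha⟩ := hH.proper
  obtain ⟨hqa, hq⟩ := hH.fixIn_moves hr hr1 ha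
  set q := r • a with hqdef
  have hea : e ≠ a := fun h => ha (h ▸ heH)
  have hqe : q ≠ e := fun h => hq (h ▸ heH)
  have hdl : d ∉ S.lam e a := fun h =>
    hed (hH.unique hea (S.right_mem_lam hea) ha (S.left_mem_lam hea) heH h hd)
  have hced : c ∈ S.lam e d := by
    have h : e ∈ S.lam d c := by rw [S.lam_symm]; exact he
    rw [S.lam_symm]
    exact S.mem_lam_swap hcd.symm h hed.symm
  obtain ⟨hqc, z, hz1, hz2⟩ := S.veblen hea hdl (S.smul_mem_lam hea (mem_fixIn.mp hr).1)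
    hqe hced hec.symm
  have hda : a ≠ d := fun h => ha (h ▸ hd)
  have hzH : z ∉ H := fun h => hcd (by
    rw [← hH.unique hqc (S.left_mem_lam hqc) hq hz2 h (S.right_mem_lam hqc) hc,
      hH.unique hda (S.left_mem_lam hda) ha hz1 h (S.right_mem_lam hda) hd])
  have hzd : z ≠ d := fun h => hzH (h ▸ hd)
  have hzc : z ≠ c := fun h => hzH (h ▸ hc)
  obtain ⟨u, hu, hua⟩ := hH.trans_T hd ha (by rw [S.lam_symm]; exact hz1) hzd
  obtain ⟨t, ht, htz⟩ := hH.trans_T hc hzH (z := q)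
    (S.mem_lam_swap (fun h => hq (h ▸ hc)) (by rw [S.lam_symm]; exact hz2) hzc.symm)
    (fun h => hq (h ▸ hc))
  refine ⟨t, ht, u, hu, hH.transl_ext (fixIn_le_transl heH hr)
    (mul_mem (fixIn_le_transl hc ht) (fixIn_le_transl hd hu)) ha ?_⟩
  rw [mul_smul, hua, htz]

theorem IsHyp.exists_ne_one (hH : S.IsHyp H) {c : X} (hc : c ∈ H) :
    ∃ t ∈ S.fixIn c H, t ≠ 1 := by
  obtain ⟨a, ha⟩ := hH.proper
  have hca : c ≠ a := fun h => ha (h ▸ hc)
  obtain ⟨z, hz, hzc, hza⟩ := S.exists_third hca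
  obtain ⟨t, ht, rfl⟩ := hH.trans_T hc ha hz hzc
  exact ⟨t, ht, fun h => hza (by rw [h, one_smul])⟩

end Setup

end Cfsg.Agent.H70.ONan
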