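import Cfsg.Agent.H70.ONan.Base

/-!
The line through two points, and closedness of fixed point sets.
-/

set_option autoImplicit false
set_option linter.unusedSectionVars false

namespace Cfsg.Agent.H70.ONan

open MulAction

variable {p : ℕ} {G X : Type*} [Group G] [MulAction G X] [FaithfulSMul G X] [Finite G] [Finite X]
  [Fact p.Prime] (S : Setup p G X)

namespace Setup

/-- the product of the two subgroups attached to an ordered pair of points -/
def prodA (a b : X) (hab : a ≠ b) : Subgroup G where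
  carrier := {g | ∃ u ∈ S.nb a b, ∃ v ∈ S.nb b a, g = u * v}
  one_mem' := ⟨1, one_mem _, 1, one_mem _, (one_mul 1).symm⟩
  mul_mem' := by
    rintro _ _ ⟨u, hu, v, hv, rfl⟩ ⟨u', hu', v', hv', rfl⟩
    refine ⟨u * u', mul_mem hu hu', v * v', mul_mem hv hv', ?_⟩
    calc u * v * (u' * v') = u * (v * u') * v' := by simp only [mul_assoc]
      _ = u * (u' * v) * v' := by rw [← S.comm_cross hab hu' hv]
      _ = _ := by simp only [mul_assoc]
  inv_mem' := by
    rintro _ ⟨u, hu, v, hv, rfl⟩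
    refine ⟨u⁻¹, inv_mem hu, v⁻¹, inv_mem hv, ?_⟩
    rw [mul_inv_rev, S.comm_cross hab (inv_mem hu) (inv_mem hv)]

theorem nb_le_prodA {a b : X} (hab : a ≠ b) : S.nb a b ≤ S.prodA a b hab :=
  fun u hu => ⟨u, hu, 1, one_mem _, (mul_one u).symm⟩

theorem nb_le_prodA' {a b : X} (hab : a ≠ b) : S.nb b a ≤ S.prodA a b hab :=
  fun v hv => ⟨1, one_mem _, v, hv, (one_mul v).symm⟩

theorem prodA_le {a b : X} (hab : a ≠ b) {H : Subgroup G} (h1 : S.nb a b ≤ H) (h2 : S.nb b a ≤ H) :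
    S.prodA a b hab ≤ H := by
  rintro _ ⟨u, hu, v, hv, rfl⟩
  exact mul_mem (h1 hu) (h2 hv)

theorem prodA_symm {a b : X} (hab : a ≠ b) : S.prodA b a hab.symm = S.prodA a b hab :=
  le_antisymm (S.prodA_le hab.symm (S.nb_le_prodA' hab) (S.nb_le_prodA hab))
    (S.prodA_le hab (S.nb_le_prodA' hab.symm) (S.nb_le_prodA hab.symm))

theorem prodA_comm {a b : X} (hab : a ≠ b) {g h : G} (hg : g ∈ S.prodA a b hab)
    (hh : h ∈ S.prodA a b hab) : g * h = h * g := by
  obtain ⟨u, hu, v, hv, rfl⟩ := hg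
  obtain ⟨u', hu', v', hv', rfl⟩ := hh
  have h1 := S.comm a u u' (S.mem_nb.mp hu).1 (S.mem_nb.mp hu').1
  have h2 := S.comm b v v' (S.mem_nb.mp hv).1 (S.mem_nb.mp hv').1
  have h3 := S.comm_cross hab hu' hv
  have h4 := S.comm_cross hab hu hv'
  calc u * v * (u' * v') = u * (v * u') * v' := by simp only [mul_assoc]
    _ = u * (u' * v) * v' := by rw [← h3]
    _ = (u * u') * (v * v') := by simp only [mul_assoc]
    _ = (u' * u) * (v' * v) := by rw [h1, h2]
    _ = u' * (u * v') * v := by simp only [mul_assoc]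
    _ = u' * (v' * u) * v := by rw [h4]
    _ = _ := by simp only [mul_assoc]

theorem card_prodA {a b : X} (hab : a ≠ b) :
    Nat.card (S.prodA a b hab) = Nat.card (S.nb a b) * Nat.card (S.nb b a) := by
  rw [← Nat.card_prod]
  refine (Nat.card_congr (Equiv.ofBijective
    (fun x : ↥(S.nb a b) × ↥(S.nb b a) =>
      (⟨(x.1 : G) * x.2, x.1, x.1.2, x.2, x.2.2, rfl⟩ : ↥(S.prodA a b hab))) ⟨?_, ?_⟩)).symm
  · rintro ⟨⟨u, hu⟩, v, hv⟩ ⟨⟨u', hu'⟩, v', hv'⟩ h
    have h' : u * v = u' * v' := congrArg Subtype.val h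
    have h2 : u'⁻¹ * u = v' * v⁻¹ := by
      rw [eq_mul_inv_iff_mul_eq, mul_assoc, h', inv_mul_cancel_left]
    have h3 := S.eq_one_of_mem hab (mul_mem (inv_mem (S.mem_nb.mp hu').1) (S.mem_nb.mp hu).1)
      (h2 ▸ mul_mem (S.mem_nb.mp hv').1 (inv_mem (S.mem_nb.mp hv).1))
    obtain rfl : u' = u := inv_mul_eq_one.mp h3
    obtain rfl : v = v' := mul_left_cancel h'
    rfl
  · rintro ⟨_, u, hu, v, hv, rfl⟩
    exact ⟨(⟨u, hu⟩, ⟨v, hv⟩), rfl⟩

theorem prodA_congr {a b : X} (hab : a ≠ b) (g : G) {x : G} (hx : x ∈ S.prodA a b hab) :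
    g * x * g⁻¹ ∈ S.prodA (g • a) (g • b) (fun h => hab (smul_left_cancel g h)) := by
  obtain ⟨u, hu, v, hv, rfl⟩ := hx
  rw [S.mem_nb] at hu hv
  refine ⟨g * u * g⁻¹, S.mem_nb.mpr ⟨S.conj_mem g a u hu.1, by simp [mul_smul, hu.2]⟩,
    g * v * g⁻¹, S.mem_nb.mpr ⟨S.conj_mem g b v hv.1, by simp [mul_smul, hv.2]⟩, by simp [mul_assoc]⟩

open Classical in
/-- the line through `a` and `b` -/
noncomputable def lam (a b : X) : Set X :=
  if hab : a ≠ b then {z | Nat.card ↥(S.N z ⊓ S.prodA a b hab) = Nat.card (S.nb a b)} else {a}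

theorem mem_lam {a b : X} (hab : a ≠ b) {z : X} :
    z ∈ S.lam a b ↔ Nat.card ↥(S.N z ⊓ S.prodA a b hab) = Nat.card (S.nb a b) := by
  rw [lam, dif_pos hab]; rfl

theorem prodA_fix {a b : X} (hab : a ≠ b) {g : G} (hg : g ∈ S.prodA a b hab) :
    g • a = a ∧ g • b = b := by
  obtain ⟨u, hu, v, hv, rfl⟩ := hg
  rw [S.mem_nb] at hu hv
  simp [mul_smul, hu.2, hv.2, S.le_stab a u hu.1, S.le_stab b v hv.1]

theorem lam_symm (a b : X) : S.lam b a = S.lam a b := by
  rcases eq_or_ne a b with rfl | hab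
  · rfl
  · ext z
    rw [S.mem_lam hab, S.mem_lam hab.symm, S.prodA_symm hab, S.card_nb hab hab.symm]

theorem left_mem_lam {a b : X} (hab : a ≠ b) : a ∈ S.lam a b := by
  rw [S.mem_lam hab]
  refine Nat.card_congr (Equiv.subtypeEquivRight fun n => ?_)
  constructor
  · intro h
    exact S.mem_nb.mpr ⟨(Subgroup.mem_inf.mp h).1, (S.prodA_fix hab (Subgroup.mem_inf.mp h).2).2⟩
  · intro h
    exact Subgroup.mem_inf.mpr ⟨(S.mem_nb.mp h).1, S.nb_le_prodA hab h⟩

theorem right_mem_lam {a b : X} (hab : a ≠ b) : b ∈ S.lam a b := by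
  rw [← S.lam_symm a b]; exact S.left_mem_lam hab.symm

theorem prodA_fix_lam {a b z : X} (hab : a ≠ b) (hz : z ∈ S.lam a b) {g : G}
    (hg : g ∈ S.prodA a b hab) : g • z = z := by
  rw [S.mem_lam hab] at hz
  have : Nontrivial ↥(S.N z ⊓ S.prodA a b hab) := by
    rw [← Finite.one_lt_card_iff_nontrivial, hz, Finite.one_lt_card_iff_nontrivial]
    obtain ⟨n, hn, hn1⟩ := S.exists_nb hab
    exact ⟨⟨⟨n, hn⟩, 1, fun h => hn1 (congrArg Subtype.val h)⟩⟩
  obtain ⟨⟨x, hx⟩, hx1⟩ := exists_ne (1 : ↥(S.N z ⊓ S.prodA a b hab))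
  exact S.fix_of_comm (Subgroup.mem_inf.mp hx).1 (fun h => hx1 (Subtype.ext h))
    (S.prodA_comm hab hg (Subgroup.mem_inf.mp hx).2)

theorem nb_eq_inf {a b z w : X} (hab : a ≠ b) (hz : z ∈ S.lam a b) (hw : w ∈ S.lam a b)
    (hzw : z ≠ w) : S.nb z w = S.N z ⊓ S.prodA a b hab := by
  refine (Subgroup.eq_of_le_of_card_ge ?_ ?_).symm
  · intro n hn
    exact S.mem_nb.mpr ⟨(Subgroup.mem_inf.mp hn).1,
      S.prodA_fix_lam hab hw (Subgroup.mem_inf.mp hn).2⟩
  · rw [(S.mem_lam hab).mp hz, S.card_nb hab hzw]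

theorem prodA_eq {a b z w : X} (hab : a ≠ b) (hz : z ∈ S.lam a b) (hw : w ∈ S.lam a b)
    (hzw : z ≠ w) : S.prodA z w hzw = S.prodA a b hab := by
  refine Subgroup.eq_of_le_of_card_ge (S.prodA_le hzw ?_ ?_) ?_
  · rw [S.nb_eq_inf hab hz hw hzw]; exact inf_le_right
  · rw [S.nb_eq_inf hab hw hz hzw.symm]; exact inf_le_right
  · rw [S.card_prodA, S.card_prodA, S.card_nb hab hzw, S.card_nb hab.symm hzw.symm]

theorem lam_eq {a b z w : X} (hab : a ≠ b) (hz : z ∈ S.lam a b) (hw : w ∈ S.lam a b)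
    (hzw : z ≠ w) : S.lam z w = S.lam a b := by
  ext u
  rw [S.mem_lam hzw, S.mem_lam hab, S.prodA_eq hab hz hw hzw, S.card_nb hab hzw]

theorem lam_eq_left {a b c : X} (hab : a ≠ b) (hc : c ∈ S.lam a b) (hac : a ≠ c) :
    S.lam a c = S.lam a b := S.lam_eq hab (S.left_mem_lam hab) hc hac

theorem mem_lam_swap {a b c : X} (hac : a ≠ c) (hbc : b ∈ S.lam a c) (hab : a ≠ b) :
    c ∈ S.lam a b := by
  rw [S.lam_eq_left hac hbc hab]; exact S.right_mem_lam hac

theorem smul_lam {a b : X} (hab : a ≠ b) (g : G) {z : X} (hz : z ∈ S.lam a b) :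
    g • z ∈ S.lam (g • a) (g • b) := by
  have hgab : g • a ≠ g • b := fun h => hab (smul_left_cancel g h)
  rw [S.mem_lam hgab, S.card_nb hab hgab, ← (S.mem_lam hab).mp hz]
  refine (Nat.card_congr ((MulAut.conj g).toEquiv.subtypeEquiv fun n => ?_)).symm
  simp only [Subgroup.mem_inf, MulEquiv.toEquiv_eq_coe, EquivLike.coe_coe, MulAut.conj_apply,
    S.mem_conj_iff]
  refine and_congr_right fun _ => ⟨S.prodA_congr hab g, fun h => ?_⟩
  have h2 := S.prodA_congr hgab g⁻¹ h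
  simpa [mul_assoc] using h2

theorem smul_lam_iff {a b : X} (hab : a ≠ b) (g : G) {z : X} :
    g • z ∈ S.lam (g • a) (g • b) ↔ z ∈ S.lam a b := by
  refine ⟨fun h => ?_, S.smul_lam hab g⟩
  have h2 := S.smul_lam (fun h => hab (smul_left_cancel g h)) g⁻¹ h
  simpa using h2

theorem smul_mem_lam {a b : X} (hab : a ≠ b) {n : G} (hn : n ∈ S.N a) :
    n • b ∈ S.lam a b := by
  have hfix : n • a = a := S.le_stab a n hn
  have hne : n • b ≠ a := fun h => hab (smul_left_cancel n (hfix.trans h.symm))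
  rw [S.mem_lam hab]
  refine le_antisymm ?_ ?_
  · rw [← S.card_nb hab hne]
    refine Subgroup.card_le_of_le fun m hm => ?_
    exact S.mem_nb.mpr ⟨(Subgroup.mem_inf.mp hm).1, (S.prodA_fix hab (Subgroup.mem_inf.mp hm).2).1⟩
  · rw [S.card_nb hab.symm hab]
    refine Nat.card_le_card_of_injective
      (fun m : ↥(S.nb b a) => (⟨n * m * n⁻¹, Subgroup.mem_inf.mpr
        ⟨S.conj_mem n b m (S.mem_nb.mp m.2).1, ?_⟩⟩ : ↥(S.N (n • b) ⊓ S.prodA a b hab)))
      fun m m' h => ?_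
    · obtain ⟨u, hu, hum⟩ := S.conj_nb hab m.2 hn
      rw [hum]
      exact ⟨u, hu, m, m.2, rfl⟩
    · have h2 : n * (m : G) * n⁻¹ = n * (m' : G) * n⁻¹ := congrArg Subtype.val h
      exact Subtype.ext (mul_left_cancel (mul_right_cancel h2))

theorem smul_lam_left {a b z : X} (hab : a ≠ b) {n : G} (hn : n ∈ S.N a) (hz : z ∈ S.lam a b) :
    n • z ∈ S.lam a b := by
  rcases eq_or_ne a z with rfl | haz
  · rw [S.le_stab a n hn]; exact hz
  · rw [← S.lam_eq_left hab hz haz]; exact S.smul_mem_lam haz hn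

theorem exists_third {a b : X} (hab : a ≠ b) : ∃ c ∈ S.lam a b, c ≠ a ∧ c ≠ b := by
  obtain ⟨n, hn, hnb⟩ := S.not_fix hab
  exact ⟨n • b, S.smul_mem_lam hab hn,
    fun h => hab (smul_left_cancel n ((S.le_stab a n hn).trans h.symm)), hnb⟩

/-- an element of some `N a` fixing two points fixes their line -/
theorem fix_line {a u w : X} (huw : u ≠ w) {n : G} (hn : n ∈ S.N a) (hu : n • u = u)
    (hw : n • w = w) {z : X} (hz : z ∈ S.lam u w) : n • z = z := by
  by_cases ha : a ∈ S.lam u w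
  · rcases eq_or_ne a z with rfl | haz
    · exact S.le_stab a n hn
    · have key : ∀ {v : X}, n • v = v → v ∈ S.lam u w → a ≠ v → n • z = z := by
        intro v hv hvL hav
        have h1 : n ∈ S.nb a z := by
          rw [S.nb_eq_inf huw ha hz haz, ← S.nb_eq_inf huw ha hvL hav]
          exact S.mem_nb.mpr ⟨hn, hv⟩
        exact (S.mem_nb.mp h1).2
      rcases eq_or_ne a u with rfl | hau
      · exact key hw (S.right_mem_lam huw) huw
      · exact key hu (S.left_mem_lam huw) hau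
  · have haz : a ≠ z := fun h => ha (h ▸ hz)
    have h1 := S.smul_lam huw n hz
    rw [hu, hw] at h1
    have h2 := S.smul_mem_lam haz hn
    by_contra hne
    apply ha
    rw [← S.lam_eq huw hz h1 (Ne.symm hne),
      S.lam_eq haz (S.right_mem_lam haz) h2 (Ne.symm hne)]
    exact S.left_mem_lam haz

end Setup

end Cfsg.Agent.H70.ONan
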