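import Cfsg.Agent.H70.ONan.Coord
import Cfsg.Agent.Linear.Simple

/-!
The subgroup generated by all translations is the projective special linear group.
-/

set_option autoImplicit false
set_option linter.unusedSectionVars false

open scoped LinearAlgebra.Projectivization

namespace Cfsg.Agent.H70.ONan

open MulAction Matrix

section Transvections

variable {ι : Type*} [Fintype ι] [DecidableEq ι] {F : Type*} [Field F]

/-- the transvection `v ↦ v + (w ⬝ v) d` -/
def tv (d w : ι → F) (h : w ⬝ᵥ d = 0) : SpecialLinearGroup ι F :=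
  ⟨1 + vecMulVec d w, by
    rw [vecMulVec_eq Unit, det_one_add_replicateCol_mul_replicateRow, h, add_zero]⟩

theorem tv_smul {d w : ι → F} (h : w ⬝ᵥ d = 0) (v : ι → F) :
    tv d w h • v = v + (w ⬝ᵥ v) • d := by
  change (1 + vecMulVec d w) *ᵥ v = _
  simp [Matrix.add_mulVec, Matrix.vecMulVec_mulVec]

theorem submodule_smul_le (g : SpecialLinearGroup ι F) {a b z : ℙ F (ι → F)}
    (h : z.submodule ≤ a.submodule ⊔ b.submodule) :
    (g • z).submodule ≤ (g • a).submodule ⊔ (g • b).submodule := by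
  induction a using Projectivization.ind with | _ va ha =>
  induction b using Projectivization.ind with | _ vb hb =>
  induction z using Projectivization.ind with | _ vz hz =>
  simp only [Projectivization.smul_mk, Projectivization.submodule_mk,
    Submodule.span_singleton_le_iff_mem] at h ⊢
  rw [← Submodule.span_insert, Submodule.mem_span_pair] at h ⊢
  obtain ⟨α, β, rfl⟩ := h
  exact ⟨α, β, by rw [smul_add, smul_comm g α, smul_comm g β]⟩

theorem exists_dot (W : Submodule F (ι → F)) (hW : W ≠ ⊤)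
    (hco : ∀ u v : ι → F, u ∉ W → v ∉ W → ∃ α β : F, α ≠ 0 ∧ α • u + β • v ∈ W) :
    ∃ w : ι → F, w ≠ 0 ∧ ∀ v, (w ⬝ᵥ v = 0 ↔ v ∈ W) := by
  obtain ⟨f, hf, hle⟩ := Submodule.exists_le_ker_of_lt_top W (lt_top_iff_ne_top.mpr hW)
  have hfd : ∀ v, (fun i => f (Pi.single i 1)) ⬝ᵥ v = f v := by
    intro v
    have : v = ∑ i, v i • (Pi.single i (1 : F) : ι → F) := by
      ext j; simp [Pi.single_apply, Finset.sum_apply]
    conv_rhs => rw [this]
    simp [dotProduct, mul_comm]
  refine ⟨fun i => f (Pi.single i 1), fun h0 => hf (LinearMap.ext fun v => ?_), fun v => ?_⟩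
  · rw [← hfd v, h0, zero_dotProduct]; rfl
  · rw [hfd]
    refine ⟨fun hv => ?_, fun hv => hle hv⟩
    by_contra hvW
    apply hf
    refine LinearMap.ext fun u => ?_
    change f u = 0
    by_cases hu : u ∈ W
    · exact hle hu
    · obtain ⟨α, β, hα, hm⟩ := hco u v hu hvW
      have e := hle hm
      rw [LinearMap.mem_ker, map_add, map_smul, map_smul, hv, smul_zero, add_zero,
        smul_eq_mul, mul_eq_zero] at e
      exact e.resolve_left hα

end Transvections

variable {p : ℕ} {G X : Type*} [Group G] [MulAction G X] [FaithfulSMul G X] [Finite G] [Finite X]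
  [Fact p.Prime] {S : Setup p G X}

namespace Setup

theorem IsHyp.exists_off_line {H : Set X} (hH : S.IsHyp H) {c q : X} (hc : c ∈ H) (hq : q ∉ H) :
    ∃ u, u ∉ H ∧ u ∉ S.lam c q := by
  have hcq : c ≠ q := fun h => hq (h ▸ hc)
  obtain ⟨w, hw⟩ := S.exists_off hcq
  by_cases hwH : w ∈ H
  · have hqw : q ≠ w := fun h => hw (h ▸ S.right_mem_lam hcq)
    obtain ⟨u, hu, huq, huw⟩ := S.exists_third hqw
    refine ⟨u, fun h => huw (hH.unique hqw (S.left_mem_lam hqw) hq hu h (S.right_mem_lam hqw) hwH),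
      fun h => hw ?_⟩
    rw [← S.lam_eq hcq (S.right_mem_lam hcq) h huq.symm, S.lam_eq_left hqw hu huq.symm]
    exact S.right_mem_lam hqw
  · exact ⟨w, hwH, hw⟩

/-- two collineations fixing `H` pointwise, with centre `c`, agreeing at one point outside, agree -/
theorem IsHyp.collineation_ext {H : Set X} (hH : S.IsHyp H) {c : X} (hc : c ∈ H) {f g : X → X}
    (hfi : Function.Injective f) (_hgi : Function.Injective g)
    (hfl : ∀ a b z, a ≠ b → z ∈ S.lam a b → f z ∈ S.lam (f a) (f b))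
    (hgl : ∀ a b z, a ≠ b → z ∈ S.lam a b → g z ∈ S.lam (g a) (g b))
    (hfH : ∀ h ∈ H, f h = h) (hgH : ∀ h ∈ H, g h = h)
    (hfc : ∀ z, c ≠ z → f z ∈ S.lam c z) (hgc : ∀ z, c ≠ z → g z ∈ S.lam c z)
    {q : X} (hq : q ∉ H) (hfg : f q = g q) : f = g := by
  have main : ∀ {q : X}, q ∉ H → f q = g q → ∀ z ∉ H, z ∉ S.lam c q → f z = g z := by
    intro q hq hfg z hz hzl
    have hcq : c ≠ q := fun h => hq (h ▸ hc)
    have hcz : c ≠ z := fun h => hz (h ▸ hc)
    have hqz : q ≠ z := fun h => hzl (h ▸ S.right_mem_lam hcq)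
    obtain ⟨e, he, heH⟩ := hH.meets hqz
    have hqe : q ≠ e := fun h => hq (h ▸ heH)
    have hze : z ∈ S.lam q e := by
      rw [S.lam_eq_left hqz he hqe]; exact S.right_mem_lam hqz
    have h1 := hfl q e z hqe hze
    have h2 := hgl q e z hqe hze
    rw [hfH e heH] at h1
    rw [hgH e heH, ← hfg] at h2
    by_contra hne
    have hfqe : f q ≠ e := fun h => hqe (hfi (h.trans (hfH e heH).symm))
    have e1 := S.lam_eq hfqe h1 h2 hne
    have e2 := S.lam_eq hcz (hfc z hcz) (hgc z hcz) hne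
    have h3 : f q ∈ S.lam c z := by rw [← e2, e1]; exact S.left_mem_lam hfqe
    have hfqc : c ≠ f q := fun h => hcq (hfi ((hfH c hc).trans h))
    apply hzl
    rw [← S.lam_eq_left hcq (hfc q hcq) hfqc, S.lam_eq_left hcz h3 hfqc]
    exact S.right_mem_lam hcz
  funext z
  by_cases hz : z ∈ H
  · rw [hfH z hz, hgH z hz]
  by_cases hzl : z ∈ S.lam c q
  · obtain ⟨u, huH, hul⟩ := hH.exists_off_line hc hq
    have hfu : f u = g u := main hq hfg u huH hul
    refine main huH hfu z hz fun h => hul ?_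
    have hcq : c ≠ q := fun h => hq (h ▸ hc)
    have hcz : c ≠ z := fun h => hz (h ▸ hc)
    have hcu : c ≠ u := fun h => huH (h ▸ hc)
    rw [← S.lam_eq_left hcq hzl hcz, S.lam_eq_left hcu h hcz]
    exact S.right_mem_lam hcu
  · exact main hq hfg z hz hzl

section Coord

variable {F : Type} [Field F] {n : ℕ} {φ : X ≃ ℙ F (Fin n → F)}

/-- the representative vector of a point -/
noncomputable def vec (φ : X ≃ ℙ F (Fin n → F)) (z : X) : Fin n → F := (φ z).rep

theorem mem_lam_iff_vec (hφ : S.IsCoord F n φ) {a b z : X} (hab : a ≠ b) :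
    z ∈ S.lam a b ↔ ∃ α β : F, α • vec φ a + β • vec φ b = vec φ z := by
  rw [hφ a b z hab, Projectivization.submodule_eq, Projectivization.submodule_eq,
    Projectivization.submodule_eq, Submodule.span_singleton_le_iff_mem, ← Submodule.span_insert,
    Submodule.mem_span_pair]
  rfl

theorem vec_ne_zero (z : X) : vec φ z ≠ 0 := Projectivization.rep_nonzero _

theorem vec_inj {a b : X} {k : F} (h : k • vec φ b = vec φ a) : a = b := by
  apply φ.injective
  rw [← (φ a).mk_rep, ← (φ b).mk_rep]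
  exact (Projectivization.mk_eq_mk_iff' F _ _ _ _).mpr ⟨k, h⟩

/-- the point of a nonzero vector -/
noncomputable def pt (φ : X ≃ ℙ F (Fin n → F)) (v : Fin n → F) (hv : v ≠ 0) : X :=
  φ.symm (Projectivization.mk F v hv)

theorem exists_vec_pt (v : Fin n → F) (hv : v ≠ 0) :
    ∃ k : F, k ≠ 0 ∧ vec φ (pt φ v hv) = k • v := by
  have h : Projectivization.mk F (vec φ (pt φ v hv)) (vec_ne_zero _) = Projectivization.mk F v hv := by
    rw [show Projectivization.mk F (vec φ (pt φ v hv)) (vec_ne_zero _) = φ (pt φ v hv) from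
      Projectivization.mk_rep _]
    exact φ.apply_symm_apply _
  obtain ⟨k, hk⟩ := (Projectivization.mk_eq_mk_iff' F _ _ _ _).mp h
  exact ⟨k, fun h0 => vec_ne_zero (φ := φ) (pt φ v hv) (by rw [← hk, h0, zero_smul]), hk.symm⟩

/-- the collineation of an element of `SL` -/
noncomputable def act (φ : X ≃ ℙ F (Fin n → F)) (g : SpecialLinearGroup (Fin n) F) (z : X) : X :=
  φ.symm (g • φ z)

theorem act_injective (g : SpecialLinearGroup (Fin n) F) : Function.Injective (act φ g) :=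
  fun _ _ h => φ.injective (MulAction.injective g (φ.symm.injective h))

theorem act_lam (hφ : S.IsCoord F n φ) (g : SpecialLinearGroup (Fin n) F) {a b z : X}
    (hab : a ≠ b) (hz : z ∈ S.lam a b) : act φ g z ∈ S.lam (act φ g a) (act φ g b) := by
  rw [hφ _ _ _ ((act_injective g).ne hab)]
  simp only [act, φ.apply_symm_apply]
  exact submodule_smul_le g ((hφ a b z hab).mp hz)

theorem act_tv {d w : Fin n → F} (h : w ⬝ᵥ d = 0) (z : X) :
    ∃ k : F, k ≠ 0 ∧ vec φ (act φ (tv d w h) z) = k • (vec φ z + (w ⬝ᵥ vec φ z) • d) := by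
  have hne : vec φ z + (w ⬝ᵥ vec φ z) • d ≠ 0 := by
    rw [← tv_smul h]
    exact (smul_ne_zero_iff_ne _).mpr (vec_ne_zero z)
  obtain ⟨k, hk, e⟩ := exists_vec_pt (φ := φ) _ hne
  refine ⟨k, hk, ?_⟩
  rw [← e]
  congr 1
  simp only [act, pt]
  congr 1
  conv_lhs => rw [← (φ z).mk_rep, Projectivization.smul_mk]
  congr 1
  exact tv_smul h _

/-- a hyperplane is given by a linear form -/
theorem IsHyp.exists_form (hφ : S.IsCoord F n φ) {H : Set X} (hH : S.IsHyp H) :
    ∃ w : Fin n → F, w ≠ 0 ∧ ∀ z, (z ∈ H ↔ w ⬝ᵥ vec φ z = 0) := by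
  let W : Submodule F (Fin n → F) :=
    { carrier := {v | ∀ hv : v ≠ 0, pt φ v hv ∈ H}
      zero_mem' := fun hv => absurd rfl hv
      smul_mem' := fun c v hv hne => by
        have hv0 : v ≠ 0 := fun h => hne (by rw [h, smul_zero])
        have hc0 : c ≠ 0 := fun h => hne (by rw [h, zero_smul])
        convert hv hv0 using 1
        simp only [pt]
        congr 1
        exact (Projectivization.mk_eq_mk_iff' F _ _ _ _).mpr ⟨c, rfl⟩
      add_mem' := fun {u v} hu hv hne => by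
        by_cases hu0 : u = 0
        · subst hu0; simp only [zero_add] at hne ⊢; exact hv hne
        by_cases hv0 : v = 0
        · subst hv0; simp only [add_zero] at hne ⊢; exact hu hne
        obtain ⟨k1, hk1, e1⟩ := exists_vec_pt (φ := φ) u hu0
        obtain ⟨k2, hk2, e2⟩ := exists_vec_pt (φ := φ) v hv0
        obtain ⟨k3, hk3, e3⟩ := exists_vec_pt (φ := φ) (u + v) hne
        by_cases hab : pt φ u hu0 = pt φ v hv0
        · have e : pt φ (u + v) hne = pt φ u hu0 := by
            apply vec_inj (φ := φ) (k := k3 * (k1⁻¹ + k2⁻¹))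
            rw [e3, mul_smul, add_smul]
            congr 1
            congr 1
            · rw [e1, inv_smul_smul₀ hk1]
            · rw [hab, e2, inv_smul_smul₀ hk2]
          rw [e]; exact hu hu0
        · refine hH.closed (hu hu0) (hv hv0) hab ((mem_lam_iff_vec hφ hab).mpr
            ⟨k3 * k1⁻¹, k3 * k2⁻¹, ?_⟩)
          rw [e1, e2, e3, smul_smul, smul_smul, mul_assoc, mul_assoc, inv_mul_cancel₀ hk1,
            inv_mul_cancel₀ hk2, mul_one, smul_add] }
  have hW : ∀ z, z ∈ H ↔ vec φ z ∈ W := by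
    intro z
    have e : pt φ (vec φ z) (vec_ne_zero z) = z := by
      simp only [pt, vec, Projectivization.mk_rep, φ.symm_apply_apply]
    exact ⟨fun h _ => e.symm ▸ h, fun h => e ▸ h (vec_ne_zero z)⟩
  obtain ⟨q, hq⟩ := hH.proper
  obtain ⟨w, hw0, hw⟩ := exists_dot W (fun h => hq ((hW q).mpr (h ▸ Submodule.mem_top))) (by
    intro u v hu hv
    have hu0 : u ≠ 0 := fun h => hu (h ▸ zero_mem _)
    have hv0 : v ≠ 0 := fun h => hv (h ▸ zero_mem _)
    obtain ⟨k1, hk1, e1⟩ := exists_vec_pt (φ := φ) u hu0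
    obtain ⟨k2, hk2, e2⟩ := exists_vec_pt (φ := φ) v hv0
    by_cases hab : pt φ u hu0 = pt φ v hv0
    · refine ⟨k1, -k2, hk1, ?_⟩
      rw [neg_smul, ← e1, ← e2, hab, add_neg_cancel]
      exact zero_mem _
    · obtain ⟨e, he, heH⟩ := hH.meets hab
      obtain ⟨α, β, hαβ⟩ := (mem_lam_iff_vec hφ hab).mp he
      rw [e1, e2, smul_smul, smul_smul] at hαβ
      refine ⟨α * k1, β * k2, mul_ne_zero (fun h0 => hv ?_) hk1, hαβ ▸ (hW e).mp heH⟩
      have h1 := (hW e).mp heH
      rw [← hαβ, h0, zero_mul, zero_smul, zero_add] at h1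
      have hβ : β * k2 ≠ 0 := fun hb => vec_ne_zero (φ := φ) e (by
        rw [← hαβ, h0, zero_mul, hb, zero_smul, zero_smul, add_zero])
      have h2 := W.smul_mem (β * k2)⁻¹ h1
      rwa [inv_smul_smul₀ hβ] at h2)
  exact ⟨w, hw0, fun z => (hW z).trans (hw _).symm⟩

theorem isHyp_of_form (hφ : S.IsCoord F n φ) {w : Fin n → F} (hw : w ≠ 0) :
    S.IsHyp {z | w ⬝ᵥ vec φ z = 0} := by
  refine ⟨fun {a b} ha hb hab z hz => ?_, ?_, fun {a b} hab => ?_⟩
  · obtain ⟨α, β, h⟩ := (mem_lam_iff_vec hφ hab).mp hz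
    change w ⬝ᵥ vec φ z = 0
    rw [← h, dotProduct_add, dotProduct_smul, dotProduct_smul, ha, hb, smul_zero, smul_zero,
      add_zero]
  · obtain ⟨i, hi⟩ := Function.ne_iff.mp hw
    have hs : (Pi.single i 1 : Fin n → F) ≠ 0 := Pi.single_ne_zero_iff.mpr one_ne_zero
    refine ⟨pt φ _ hs, fun h => hi ?_⟩
    obtain ⟨k, hk, e⟩ := exists_vec_pt (φ := φ) _ hs
    change w ⬝ᵥ vec φ (pt φ _ hs) = 0 at h
    rw [e, dotProduct_smul, dotProduct_single, mul_one, smul_eq_mul, mul_eq_zero] at h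
    exact h.resolve_left hk
  · by_cases ha : w ⬝ᵥ vec φ a = 0
    · exact ⟨a, S.left_mem_lam hab, ha⟩
    · set u := (w ⬝ᵥ vec φ b) • vec φ a - (w ⬝ᵥ vec φ a) • vec φ b with hu
      have hu0 : u ≠ 0 := fun h => hab (vec_inj (φ := φ)
        (k := (w ⬝ᵥ vec φ a)⁻¹ * (w ⬝ᵥ vec φ b))
        (by rw [mul_smul, sub_eq_zero.mp h, inv_smul_smul₀ ha])).symm
      obtain ⟨k, hk, e⟩ := exists_vec_pt (φ := φ) u hu0
      refine ⟨pt φ u hu0, (mem_lam_iff_vec hφ hab).mpr
        ⟨k * (w ⬝ᵥ vec φ b), -(k * (w ⬝ᵥ vec φ a)), ?_⟩, ?_⟩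
      · rw [e, hu, smul_sub, smul_smul, smul_smul, neg_smul, ← sub_eq_add_neg]
      · change w ⬝ᵥ vec φ (pt φ u hu0) = 0
        rw [e, dotProduct_smul, hu, dotProduct_sub, dotProduct_smul, dotProduct_smul]
        simp [mul_comm]

/-- translations are transvections -/
theorem smul_eq_act (hφ : S.IsCoord F n φ) {H : Set X} (hH : S.IsHyp H) {w : Fin n → F}
    (hw : ∀ z, z ∈ H ↔ w ⬝ᵥ vec φ z = 0) {c : X} (hc : c ∈ H) {d : Fin n → F} {μ : F}
    (hd : d = μ • vec φ c) (h : w ⬝ᵥ d = 0) {t : G} (ht : t ∈ S.fixIn c H) {q : X} (hq : q ∉ H)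
    (hq' : t • q = act φ (tv d w h) q) (z : X) : t • z = act φ (tv d w h) z := by
  obtain ⟨ht1, ht2⟩ := mem_fixIn.mp ht
  refine congrFun (hH.collineation_ext hc (f := fun z => t • z) (g := act φ (tv d w h))
    (MulAction.injective t) (act_injective _) (fun a b z hab hz => S.smul_lam hab t hz)
    (fun a b z hab hz => act_lam hφ _ hab hz) ht2 ?_
    (fun z hcz => S.smul_mem_lam hcz ht1) ?_ hq hq') z
  · intro z hz
    obtain ⟨k, -, e⟩ := act_tv (φ := φ) h z
    rw [(hw z).mp hz, zero_smul, add_zero] at e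
    exact vec_inj (φ := φ) e.symm
  · intro z hcz
    obtain ⟨k, -, e⟩ := act_tv (φ := φ) h z
    refine (mem_lam_iff_vec hφ hcz).mpr ⟨k * (w ⬝ᵥ vec φ z) * μ, k, ?_⟩
    rw [e, hd, smul_add, smul_smul, smul_smul, add_comm]

theorem exists_tv_of_fixIn (hφ : S.IsCoord F n φ) {H : Set X} (hH : S.IsHyp H) {c : X} (hc : c ∈ H)
    {t : G} (ht : t ∈ S.fixIn c H) :
    ∃ g : SpecialLinearGroup (Fin n) F, ∀ z, t • z = act φ g z := by
  obtain ⟨w, -, hw⟩ := hH.exists_form hφ
  obtain ⟨q, hq⟩ := hH.proper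
  have hcq : c ≠ q := fun h => hq (h ▸ hc)
  obtain ⟨α, β, hαβ⟩ := (mem_lam_iff_vec hφ hcq).mp (S.smul_mem_lam hcq (mem_fixIn.mp ht).1)
  have hβ : β ≠ 0 := by
    rintro rfl
    rw [zero_smul, add_zero] at hαβ
    exact hH.not_mem_of_fix (mem_fixIn.mp ht).2 hq (vec_inj (φ := φ) hαβ ▸ hc)
  have hwq : w ⬝ᵥ vec φ q ≠ 0 := fun h => hq ((hw q).mpr h)
  have hd : w ⬝ᵥ ((α / (β * (w ⬝ᵥ vec φ q))) • vec φ c) = 0 := by
    rw [dotProduct_smul, (hw c).mp hc, smul_zero]
  refine ⟨tv _ w hd, smul_eq_act hφ hH hw hc rfl hd ht hq ?_⟩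
  obtain ⟨k, hk, e⟩ := act_tv (φ := φ) hd q
  refine vec_inj (φ := φ) (k := β * k⁻¹) ?_
  rw [e, ← hαβ, smul_smul, mul_assoc, inv_mul_cancel₀ hk, mul_one, smul_add, smul_smul, smul_smul,
    add_comm]
  congr 2
  field_simp

theorem exists_fixIn_of_tv (hφ : S.IsCoord F n φ) {d w : Fin n → F} (h : w ⬝ᵥ d = 0) (hd : d ≠ 0)
    (hw : w ≠ 0) :
    ∃ H c, S.IsHyp H ∧ c ∈ H ∧ ∃ t ∈ S.fixIn c H, ∀ z, t • z = act φ (tv d w h) z := by
  have hH := isHyp_of_form (S := S) (φ := φ) hφ hw
  obtain ⟨k, hk, e⟩ := exists_vec_pt (φ := φ) d hd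
  have hc : pt φ d hd ∈ {z | w ⬝ᵥ vec φ z = 0} := by
    change w ⬝ᵥ vec φ (pt φ d hd) = 0
    rw [e, dotProduct_smul, h, smul_zero]
  refine ⟨_, _, hH, hc, ?_⟩
  obtain ⟨q, hq⟩ := hH.proper
  obtain ⟨k', hk', e'⟩ := act_tv (φ := φ) h q
  have hcq : pt φ d hd ≠ q := fun e => hq (e ▸ hc)
  have hline : act φ (tv d w h) q ∈ S.lam (pt φ d hd) q := by
    refine (mem_lam_iff_vec hφ hcq).mpr ⟨k' * (w ⬝ᵥ vec φ q) * k⁻¹, k', ?_⟩
    rw [e', e, smul_add, smul_smul, smul_smul, inv_mul_cancel_right₀ hk, add_comm]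
  have hne : act φ (tv d w h) q ≠ pt φ d hd := by
    intro e1
    apply hq
    have h1 : w ⬝ᵥ vec φ (act φ (tv d w h) q) = 0 := by rw [e1]; exact hc
    rw [e', dotProduct_smul, dotProduct_add, dotProduct_smul, h, smul_zero, add_zero,
      smul_eq_mul, mul_eq_zero] at h1
    exact h1.resolve_left hk'
  obtain ⟨t, ht, htq⟩ := hH.trans_T hc hq hline hne
  exact ⟨t, ht, smul_eq_act hφ hH (fun z => Iff.rfl) hc (μ := k⁻¹)
    (by rw [e, inv_smul_smul₀ hk]) h ht hq htq⟩

end Coord

/-- The group generated by all translations is `PSL`, with trivial centraliser. -/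
theorem recognize {a b : X} (hab : a ≠ b) (S : Setup p G X) :
    ∃ (L : Subgroup G) (F : Type) (_ : Field F) (_ : Fintype F) (n : ℕ), 3 ≤ n ∧ L.Normal ∧
      Subgroup.centralizer (L : Set G) = ⊥ ∧
      Nonempty (↥L ≃* Matrix.ProjectiveSpecialLinearGroup (Fin n) F) ∧
      Nat.card X = Nat.card (ℙ F (Fin n → F)) := by
  classical
  obtain ⟨F, iF, iFt, n, hn, φ, hφ⟩ := S.exists_coord hab
  let gens : Set G := {t | ∃ H c, S.IsHyp H ∧ c ∈ H ∧ t ∈ S.fixIn c H}
  let L := Subgroup.closure gens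
  have hnorm : L.Normal := by
    refine ⟨fun x hx g => ?_⟩
    have hle : L ≤ L.comap (MulAut.conj g).toMonoidHom := by
      refine (Subgroup.closure_le _).mpr ?_
      rintro t ⟨H, c, hH, hc, ht⟩
      obtain ⟨ht1, ht2⟩ := mem_fixIn.mp ht
      refine Subgroup.subset_closure ⟨{z | g⁻¹ • z ∈ H}, g • c, S.isHyp_smul hH g⁻¹,
        by simpa using hc, mem_fixIn.mpr ⟨?_, fun h hh => ?_⟩⟩
      · simpa using S.conj_mem g c t ht1
      · simp only [MulEquiv.coe_toMonoidHom, MulAut.conj_apply, mul_smul]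
        rw [ht2 _ hh, smul_inv_smul]
    simpa using hle hx
  have hcent : Subgroup.centralizer (L : Set G) = ⊥ := by
    rw [eq_bot_iff]
    intro g hg
    rw [Subgroup.mem_bot]
    apply eq_one_of_fix (X := X)
    intro c
    obtain ⟨d, hcd⟩ := Setup.exists_ne_point hab c
    obtain ⟨n0, hn0, hn01⟩ := S.exists_nb hcd
    have hH := S.isHyp_fixed (S.mem_nb.mp hn0).1 hn01
    have hc : c ∈ {z : X | n0 • z = z} := S.le_stab c n0 (S.mem_nb.mp hn0).1
    obtain ⟨t, ht, ht1⟩ := hH.exists_ne_one hc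
    exact S.fix_of_comm (mem_fixIn.mp ht).1 ht1
      ((Subgroup.mem_centralizer_iff.mp hg) t (Subgroup.subset_closure ⟨_, c, hH, hc, ht⟩)).symm
  let π : G →* Equiv.Perm (ℙ F (Fin n → F)) :=
    φ.permCongrHom.toMonoidHom.comp (MulAction.toPermHom G X)
  have hπ : ∀ (g : G) q, π g q = φ (g • φ.symm q) := fun g q => rfl
  have hπi : Function.Injective π := by
    refine φ.permCongrHom.injective.comp ?_
    exact MulAction.toPerm_injective
  let α := Projectivization.PSLAction.toPermHom (K := F) (ι := Fin n)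
  let α' := α.comp (QuotientGroup.mk' (Subgroup.center (SpecialLinearGroup (Fin n) F)))
  have hα' : ∀ g q, α' g q = g • q := fun g q => rfl
  have hrange : L.map π = α.range := by
    apply le_antisymm
    · rw [MonoidHom.map_closure, Subgroup.closure_le]
      rintro _ ⟨t, ⟨H, c, hH, hc, ht⟩, rfl⟩
      obtain ⟨g, hg⟩ := exists_tv_of_fixIn hφ hH hc ht
      refine ⟨QuotientGroup.mk g, Equiv.ext fun q => ?_⟩
      change α' g q = π t q
      rw [hπ, hg, act, φ.apply_symm_apply, φ.apply_symm_apply, hα']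
    · have htop : (L.map π).comap α' = ⊤ := by
        refine Linear.eq_top_of_transvection_mem fun i j hij x => ?_
        by_cases hx : x = 0
        · have : Matrix.SpecialLinearGroup.transvection hij x = 1 := by
            refine Linear.SL_ext_smul fun v => funext fun k => ?_
            rw [Linear.transvection_smul_apply, hx]; simp
          rw [this]; exact one_mem _
        have hdot : (Pi.single j 1 : Fin n → F) ⬝ᵥ Pi.single i x = 0 := by
          rw [single_dotProduct]; simp [hij.symm]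
        have heq : Matrix.SpecialLinearGroup.transvection hij x
            = tv (Pi.single i x) (Pi.single j 1) hdot := by
          refine Linear.SL_ext_smul fun v => funext fun k => ?_
          rw [Linear.transvection_smul_apply, tv_smul, Pi.add_apply, Pi.smul_apply, smul_eq_mul,
            single_dotProduct, one_mul, Pi.single_apply]
          split_ifs <;> simp [mul_comm]
        obtain ⟨H, c, hH, hc, t, ht, htz⟩ := exists_fixIn_of_tv hφ hdot
          (Pi.single_ne_zero_iff.mpr hx) (Pi.single_ne_zero_iff.mpr one_ne_zero)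
        refine Subgroup.mem_comap.mpr ⟨t, Subgroup.subset_closure ⟨H, c, hH, hc, ht⟩, ?_⟩
        refine Equiv.ext fun q => ?_
        rw [hπ, htz, act, φ.apply_symm_apply, φ.apply_symm_apply, hα', heq]
      rintro _ ⟨q, rfl⟩
      obtain ⟨g, rfl⟩ := QuotientGroup.mk_surjective q
      exact Subgroup.mem_comap.mp (htop.ge (Subgroup.mem_top g))
  refine ⟨L, F, iF, iFt, n, hn, hnorm, hcent, ⟨?_⟩, Nat.card_congr φ⟩
  exact (L.equivMapOfInjective π hπi).trans ((MulEquiv.subgroupCongr hrange).trans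
    (MonoidHom.ofInjective
      (Matrix.ProjectiveSpecialLinearGroup.toPermHom_injective (K := F) (ι := Fin n))).symm)

end Setup

end Cfsg.Agent.H70.ONan
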