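import Cfsg.Agent.H70.ONan.Recog

/-!
O'Nan's theorem for an abelian normal subgroup of a point stabiliser that is not semiregular.
-/

set_option autoImplicit false
set_option linter.unusedSectionVars false

open scoped LinearAlgebra.Projectivization

namespace Cfsg.Agent.H70.ONan

open MulAction

variable {G X : Type*} [Group G] [Finite G] [Finite X] [MulAction G X] [FaithfulSMul G X]

/-- O'Nan's theorem, abelian case. -/
theorem main_abelian (h2 : MulAction.IsMultiplyPretransitive G X 2) (x : X) (N : Subgroup G)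
    (hNle : N ≤ stabilizer G x)
    (hNnormal : ∀ g ∈ stabilizer G x, ∀ n ∈ N, g * n * g⁻¹ ∈ N) (hNab : IsMulCommutative N)
    (hnsr : ∃ n ∈ N, n ≠ 1 ∧ ∃ y : X, y ≠ x ∧ n • y = y) :
    ∃ (L : Subgroup G) (F : Type) (_ : Field F) (_ : Fintype F) (n : ℕ), 3 ≤ n ∧ L.Normal ∧
      Subgroup.centralizer (L : Set G) = ⊥ ∧
      Nonempty (↥L ≃* Matrix.ProjectiveSpecialLinearGroup (Fin n) F) ∧
      Nat.card X = Nat.card (ℙ F (Fin n → F)) := by
  classical
  obtain ⟨n1, hn1, hn1ne, y, hyx, hn1y⟩ := hnsr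
  rw [is_two_pretransitive_iff] at h2
  -- choice of the prime
  have ho : orderOf n1 ≠ 1 := fun h => hn1ne (orderOf_eq_one_iff.mp h)
  set p := (orderOf n1).minFac with hp
  have : Fact p.Prime := ⟨Nat.minFac_prime ho⟩
  obtain ⟨e, he⟩ := Nat.minFac_dvd (orderOf n1)
  rw [← hp] at he
  set n0 := n1 ^ e with hn0
  have hn0N : n0 ∈ N := pow_mem hn1 e
  have hn0y : n0 • y = y := by
    have : n0 ∈ stabilizer G y := pow_mem (mem_stabilizer_iff.mpr hn1y) e
    exact mem_stabilizer_iff.mp this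
  have hn0p : n0 ^ p = 1 := by
    rw [hn0, ← pow_mul, mul_comm, ← he, pow_orderOf_eq_one]
  have hn01 : n0 ≠ 1 := by
    intro h
    have h1 : p * e ∣ e := he ▸ orderOf_dvd_of_pow_eq_one h
    have he0 : 0 < e := Nat.pos_of_ne_zero fun h0 => (orderOf_pos n1).ne' (by rw [he, h0, mul_zero])
    have h2 := Nat.le_of_dvd he0 h1
    nlinarith [(Fact.out : p.Prime).two_le]
  have hcommN : ∀ a b : G, a ∈ N → b ∈ N → a * b = b * a := fun a b ha hb =>
    congrArg Subtype.val (hNab.is_comm.comm (⟨a, ha⟩ : N) ⟨b, hb⟩)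
  let P : Subgroup G :=
    { carrier := {n | n ∈ N ∧ ∃ k, n ^ p ^ k = 1}
      one_mem' := ⟨one_mem _, 0, one_pow _⟩
      mul_mem' := by
        rintro a b ⟨ha, k, hk⟩ ⟨hb, l, hl⟩
        refine ⟨mul_mem ha hb, k + l, ?_⟩
        rw [(show Commute a b from hcommN a b ha hb).mul_pow, pow_add, pow_mul, hk, one_pow, one_mul,
          mul_comm, pow_mul, hl, one_pow]
      inv_mem' := by
        rintro a ⟨ha, k, hk⟩
        exact ⟨inv_mem ha, k, by rw [inv_pow, hk, inv_one]⟩ }
  have hmemP : ∀ n, n ∈ P ↔ n ∈ N ∧ ∃ k, n ^ p ^ k = 1 := fun n => Iff.rfl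
  have hPn : ∀ g, g • x = x → ∀ n ∈ P, g * n * g⁻¹ ∈ P := by
    rintro g hg n ⟨hn, k, hk⟩
    refine ⟨hNnormal g (mem_stabilizer_iff.mpr hg) n hn, k, ?_⟩
    rw [conj_pow, hk, mul_one, mul_inv_cancel]
  have hex : ∀ a : X, ∃ g : G, g • x = a := by
    intro a
    rcases eq_or_ne a x with rfl | ha
    · exact ⟨1, one_smul G _⟩
    · obtain ⟨g, hg, -⟩ := h2 hyx.symm (show a ≠ x from ha)
      exact ⟨g, hg⟩
  choose gg hgg using hex
  have key : ∀ (h : G) (a : X), h • x = a → ∀ n : G,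
      ((gg a)⁻¹ * n * gg a ∈ P ↔ h⁻¹ * n * h ∈ P) := by
    intro h a ha n
    have h1 : (h⁻¹ * gg a) • x = x := by rw [mul_smul, hgg a, ← ha, inv_smul_smul]
    have h2 : ((gg a)⁻¹ * h) • x = x := by rw [mul_smul, ha, inv_smul_eq_iff, hgg a]
    constructor
    · intro hm
      have := hPn _ h1 _ hm
      simpa [mul_assoc] using this
    · intro hm
      have := hPn _ h2 _ hm
      simpa [mul_assoc] using this
  let Nf : X → Subgroup G := fun a => P.comap (MulAut.conj (gg a)⁻¹).toMonoidHom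
  have memNf : ∀ a n, n ∈ Nf a ↔ (gg a)⁻¹ * n * gg a ∈ P := by
    intro a n
    simp [Nf]
  let S : Setup p G X :=
    { N := Nf
      le_stab := fun a n hn => by
        have h := mem_stabilizer_iff.mp (hNle ((hmemP _).mp ((memNf a n).mp hn)).1)
        rw [mul_smul, mul_smul, hgg a, inv_smul_eq_iff, hgg a] at h
        exact h
      conj_mem := fun g a n hn => by
        rw [memNf, key (g * gg a) (g • a) (by rw [mul_smul, hgg a])]
        rw [memNf] at hn
        simpa [mul_assoc] using hn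
      comm := fun a n m hn hm => by
        rw [memNf] at hn hm
        have e1 := hcommN _ _ ((hmemP _).mp hn).1 ((hmemP _).mp hm).1
        have e2 : (gg a)⁻¹ * (n * m) * gg a = (gg a)⁻¹ * (m * n) * gg a := by
          simpa [mul_assoc] using e1
        exact mul_left_cancel (mul_right_cancel e2)
      tt := fun a b c d hab hcd => h2 hab hcd
      nsr := fun a b hab => by
        obtain ⟨g, hgx, hgy⟩ := h2 hyx.symm hab
        refine ⟨g * n0 * g⁻¹, ?_, fun h => hn01 (conj_eq_one_iff.mp h), ?_⟩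
        · rw [memNf, key g a hgx]
          refine (hmemP _).mpr ?_
          rw [show g⁻¹ * (g * n0 * g⁻¹) * g = n0 by simp [mul_assoc]]
          exact ⟨hn0N, 1, by rw [pow_one, hn0p]⟩
        · rw [mul_smul, mul_smul, ← hgy, inv_smul_smul, hn0y]
      isP := fun a => by
        rintro ⟨n, hn⟩
        obtain ⟨-, k, hk⟩ := (hmemP _).mp ((memNf a n).mp hn)
        refine ⟨k, Subtype.ext ?_⟩
        have e : ((gg a)⁻¹ * n * (gg a)⁻¹⁻¹) ^ p ^ k = 1 := by rwa [inv_inv]
        rw [conj_pow, conj_eq_one_iff] at e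
        simpa using e }
  exact Setup.recognize hyx.symm S

/-- O'Nan's theorem, abelian case, with the count of points. -/
theorem main_abelian_card (h2 : MulAction.IsMultiplyPretransitive G X 2) (x : X) (N : Subgroup G)
    (hNle : N ≤ stabilizer G x)
    (hNnormal : ∀ g ∈ stabilizer G x, ∀ n ∈ N, g * n * g⁻¹ ∈ N) (hNab : IsMulCommutative N)
    (hnsr : ∃ n ∈ N, n ≠ 1 ∧ ∃ y : X, y ≠ x ∧ n • y = y) :
    ∃ (L : Subgroup G) (F : Type) (_ : Field F) (_ : Fintype F) (n : ℕ), 3 ≤ n ∧ L.Normal ∧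
      Subgroup.centralizer (L : Set G) = ⊥ ∧
      Nonempty (↥L ≃* Matrix.ProjectiveSpecialLinearGroup (Fin n) F) ∧
      Nat.card X * (Fintype.card F - 1) = Fintype.card F ^ n - 1 := by
  obtain ⟨L, F, iF, iFt, n, hn, hnorm, hC, he, hX⟩ := main_abelian h2 x N hNle hNnormal hNab hnsr
  refine ⟨L, F, iF, iFt, n, hn, hnorm, hC, he, ?_⟩
  rw [hX, ← Nat.card_eq_fintype_card, ← Projectivization.card F (Fin n → F), Nat.card_fun,
    Nat.card_fin]

end Cfsg.Agent.H70.ONan
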