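import Cfsg.Agent.H70.ONan.Lines

/-!
Triangles: the counting argument, transitivity of `N a` on the lines through `a`, and the absence of
degenerate triangles.
-/

set_option autoImplicit false
set_option linter.unusedSectionVars false

namespace Cfsg.Agent.H70.ONan

open MulAction

section Count

variable {G ι : Type*} [Group G] [Finite G]

/-- double counting for subgroups of `Q` meeting pairwise in `B` -/
theorem count_ineq (Q B : Subgroup G) (L : Finset ι) (R : ι → Subgroup G)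
    (hle : ∀ t ∈ L, R t ≤ Q) (hB : ∀ t ∈ L, B ≤ R t) (hBQ : B ≤ Q)
    (hpair : ∀ t ∈ L, ∀ u ∈ L, t ≠ u → R t ⊓ R u ≤ B) :
    (∑ t ∈ L, Nat.card (R t)) + Nat.card B ≤ L.card * Nat.card B + Nat.card Q ∧
    ((∀ q ∈ Q, ∃ t ∈ L, q ∈ R t) → L.Nonempty →
      (∑ t ∈ L, Nat.card (R t)) + Nat.card B = L.card * Nat.card B + Nat.card Q) ∧
    ((∑ t ∈ L, Nat.card (R t)) + Nat.card B = L.card * Nat.card B + Nat.card Q → L.Nonempty →
      ∀ q ∈ Q, ∃ t ∈ L, q ∈ R t) := by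
  classical
  have := Fintype.ofFinite G
  have hc : ∀ H : Subgroup G, Nat.card H = ∑ q : G, if q ∈ H then 1 else 0 := by
    intro H
    rw [Finset.sum_boole, Nat.card_eq_fintype_card, Fintype.card_subtype]
    rfl
  have e1 : (∑ t ∈ L, Nat.card (R t)) + Nat.card B
      = ∑ q : G, ((∑ t ∈ L, if q ∈ R t then 1 else 0) + if q ∈ B then 1 else 0) := by
    rw [Finset.sum_add_distrib, Finset.sum_comm, ← hc]
    simp only [← hc]
  have e2 : L.card * Nat.card B + Nat.card Q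
      = ∑ q : G, ((if q ∈ B then L.card else 0) + if q ∈ Q then 1 else 0) := by
    rw [Finset.sum_add_distrib, ← hc, hc B, Finset.mul_sum]
    simp only [mul_ite, mul_one, mul_zero]
  have hpt : ∀ q : G, ((∑ t ∈ L, if q ∈ R t then 1 else 0) + if q ∈ B then 1 else 0)
      ≤ ((if q ∈ B then L.card else 0) + if q ∈ Q then 1 else 0) ∧
      ((q ∈ Q → q ∉ B → ∃ t ∈ L, q ∈ R t) →
        ((∑ t ∈ L, if q ∈ R t then 1 else 0) + if q ∈ B then 1 else 0)
          = ((if q ∈ B then L.card else 0) + if q ∈ Q then 1 else 0)) := by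
    intro q
    rw [Finset.sum_boole]
    by_cases hqB : q ∈ B
    · have : L.filter (fun t => q ∈ R t) = L := Finset.filter_true_of_mem fun t ht => hB t ht hqB
      simp [hqB, hBQ hqB, this]
    · simp only [hqB, if_false, add_zero, zero_add, Nat.cast_id]
      have h1 : (L.filter (fun t => q ∈ R t)).card ≤ 1 := by
        rw [Finset.card_le_one]
        intro t ht u hu
        simp only [Finset.mem_filter] at ht hu
        by_contra hne
        exact hqB (hpair t ht.1 u hu.1 hne (Subgroup.mem_inf.mpr ⟨ht.2, hu.2⟩))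
      by_cases hqQ : q ∈ Q
      · simp only [hqQ, if_true]
        refine ⟨h1, fun h => le_antisymm h1 ?_⟩
        obtain ⟨t, ht, hqt⟩ := h trivial (fun hf => hf.elim)
        exact Finset.card_pos.mpr ⟨t, Finset.mem_filter.mpr ⟨ht, hqt⟩⟩
      · have h0 : L.filter (fun t => q ∈ R t) = ∅ :=
          Finset.filter_false_of_mem fun t ht h => hqQ (hle t ht h)
        simp [hqQ, h0]
  refine ⟨?_, fun hcov _ => ?_, fun heq hne q hq => ?_⟩
  · rw [e1, e2]
    exact Finset.sum_le_sum fun q _ => (hpt q).1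
  · rw [e1, e2]
    exact Finset.sum_congr rfl fun q _ => (hpt q).2 fun hq _ => hcov q hq
  · rw [e1, e2] at heq
    have := (Finset.sum_eq_sum_iff_of_le fun q _ => (hpt q).1).mp heq q (Finset.mem_univ q)
    by_contra hno
    push Not at hno
    have h0 : L.filter (fun t => q ∈ R t) = ∅ := Finset.filter_false_of_mem hno
    rw [Finset.sum_boole, h0] at this
    by_cases hqB : q ∈ B
    · obtain ⟨t, ht⟩ := hne
      exact hno t ht (hB t ht hqB)
    · simp [hqB, hq] at this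

end Count

variable {p : ℕ} {G X : Type*} [Group G] [MulAction G X] [FaithfulSMul G X] [Finite G] [Finite X]
  [Fact p.Prime] (S : Setup p G X)

namespace Setup

/-- elements of `N a` fixing `b` and `c` -/
def nb2 (a b c : X) : Subgroup G := S.nb a b ⊓ S.nb a c

theorem mem_nb2 {a b c : X} {n : G} : n ∈ S.nb2 a b c ↔ n ∈ S.N a ∧ n • b = b ∧ n • c = c := by
  simp only [nb2, Subgroup.mem_inf, S.mem_nb]; tauto

theorem nb2_comm (a b c : X) : S.nb2 a c b = S.nb2 a b c := inf_comm _ _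

theorem tri {a b c : X} (hab : a ≠ b) (hc : c ∉ S.lam a b) :
    a ≠ c ∧ b ≠ c ∧ b ∉ S.lam a c ∧ a ∉ S.lam b c := by
  have hac : a ≠ c := fun h => hc (h ▸ S.left_mem_lam hab)
  have hbc : b ≠ c := fun h => hc (h ▸ S.right_mem_lam hab)
  refine ⟨hac, hbc, fun h => hc (S.mem_lam_swap hac h hab), fun h => hc ?_⟩
  rw [← S.lam_symm]
  exact S.mem_lam_swap hbc h hab.symm

theorem dl_mem_nb2 {x y w : X} (hxy : x ≠ y) (hxw : x ≠ w) {m n : G} (hm : m ∈ S.nb2 y x w)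
    (hn : n ∈ S.N x) : dl m n ∈ S.nb2 x y w := by
  rw [S.mem_nb2] at hm
  have hq := S.mem_nb.mp (S.quad hxy (S.mem_nb.mpr ⟨hm.1, hm.2.1⟩) hn)
  refine S.mem_nb2.mpr ⟨hq.1, hq.2, ?_⟩
  have h1 : m • (n⁻¹ • w) = n⁻¹ • w :=
    S.fix_line hxw hm.1 hm.2.1 hm.2.2 (S.smul_lam_left hxw (inv_mem hn) (S.right_mem_lam hxw))
  rw [dl, mul_smul, mul_smul, mul_smul, inv_smul_eq_iff.mpr hm.2.2.symm, h1, smul_inv_smul]

/-- `m ↦ dl m n` on `nb y x` is injective for `n` moving `y` -/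
theorem dl_inj {x y : X} {n : G} (hny : n • y ≠ y) {m m' : G}
    (hm : m ∈ S.nb y x) (hm' : m' ∈ S.nb y x) (h : dl m n = dl m' n) : m = m' := by
  have e : m * n⁻¹ * m⁻¹ = m' * n⁻¹ * m'⁻¹ := mul_left_cancel h
  have h1 : (m'⁻¹ * m) * n = n * (m'⁻¹ * m) := by
    have e2 : m * n * m⁻¹ = m' * n * m'⁻¹ := by
      have := congrArg Inv.inv e
      simpa [mul_assoc] using this
    calc (m'⁻¹ * m) * n = m'⁻¹ * (m * n * m⁻¹) * m := by simp [mul_assoc]
      _ = m'⁻¹ * (m' * n * m'⁻¹) * m := by rw [e2]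
      _ = _ := by simp [mul_assoc]
  by_contra hne
  refine hny (S.fix_of_comm (g := n) (mul_mem (inv_mem (S.mem_nb.mp hm').1) (S.mem_nb.mp hm).1)
    (fun h2 => hne (inv_mul_eq_one.mp h2).symm) h1.symm)

/-- the bijection `nb y x → nb x y`, `m ↦ dl m n` -/
theorem dl_surj {x y : X} (hxy : x ≠ y) {n : G} (hn : n ∈ S.N x) (hny : n • y ≠ y) {s : G}
    (hs : s ∈ S.nb x y) : ∃ m ∈ S.nb y x, dl m n = s := by
  let f : ↥(S.nb y x) → ↥(S.nb x y) := fun m => ⟨dl m n, S.quad hxy m.2 hn⟩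
  have hf : Function.Injective f := fun m m' h =>
    Subtype.ext (S.dl_inj hny m.2 m'.2 (congrArg Subtype.val h))
  obtain ⟨m, hm⟩ := (Function.Injective.bijective_of_nat_card_le hf
    (S.card_nb hxy.symm hxy).le).2 ⟨s, hs⟩
  exact ⟨m, m.2, congrArg Subtype.val hm⟩

theorem card_nb2_le {x y w : X} (hxy : x ≠ y) (hxw : x ≠ w) :
    Nat.card (S.nb2 y x w) ≤ Nat.card (S.nb2 x y w) := by
  obtain ⟨n, hn, hny⟩ := S.not_fix hxy
  refine Nat.card_le_card_of_injective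
    (fun m : ↥(S.nb2 y x w) => (⟨dl m n, S.dl_mem_nb2 hxy hxw m.2 hn⟩ : ↥(S.nb2 x y w)))
    fun m m' h => Subtype.ext (S.dl_inj hny m.2.1 m'.2.1 (congrArg Subtype.val h))

theorem card_nb2_swap {x y w : X} (hxy : x ≠ y) (hxw : x ≠ w) (hyw : y ≠ w) :
    Nat.card (S.nb2 y x w) = Nat.card (S.nb2 x y w) :=
  le_antisymm (S.card_nb2_le hxy hxw) (S.card_nb2_le hxy.symm hyw)

theorem mem_nb2_of_dl {x y w : X} (hxy : x ≠ y) (hxw : x ≠ w) (hyw : y ≠ w) {m n : G}
    (hn : n ∈ S.N x) (hny : n • y ≠ y) (hm : m ∈ S.nb y x) (h : dl m n ∈ S.nb2 x y w) :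
    m ∈ S.nb2 y x w := by
  let f : ↥(S.nb2 y x w) → ↥(S.nb2 x y w) := fun m => ⟨dl m n, S.dl_mem_nb2 hxy hxw m.2 hn⟩
  have hf : Function.Injective f := fun a b h =>
    Subtype.ext (S.dl_inj hny a.2.1 b.2.1 (congrArg Subtype.val h))
  obtain ⟨m', hm'⟩ := (Function.Injective.bijective_of_nat_card_le hf
    (S.card_nb2_swap hxy hxw hyw).ge).2 ⟨_, h⟩
  rw [S.dl_inj hny hm m'.2.1 (congrArg Subtype.val hm').symm]
  exact m'.2

theorem card_N_eq (a b : X) : Nat.card (S.N a) = Nat.card (S.N b) := by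
  rcases eq_or_ne a b with rfl | h
  · rfl
  · obtain ⟨g, hg, -⟩ := S.tt b a a b h.symm h
    rw [← hg, S.card_N]

/-- orbit of `b` under `N a` -/
def orb (a b : X) : Set X := {z | ∃ n ∈ S.N a, n • b = z}

theorem orb_ncard (a b : X) : (S.orb a b).ncard * Nat.card (S.nb a b) = Nat.card (S.N a) := by
  have h1 : S.orb a b = MulAction.orbit ↥(S.N a) b := by
    ext z; simp [orb, MulAction.mem_orbit_iff, Subgroup.smul_def]
  have h2 : Nat.card (S.nb a b) = Nat.card (MulAction.stabilizer ↥(S.N a) b) :=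
    Nat.card_congr
      { toFun := fun n => ⟨⟨n, n.2.1⟩, (S.mem_nb.mp n.2).2⟩
        invFun := fun n => ⟨n.1.1, S.mem_nb.mpr ⟨n.1.2, n.2⟩⟩
        left_inv := fun _ => rfl
        right_inv := fun _ => rfl }
  rw [h1, h2, mul_comm, ← MulAction.index_stabilizer, Subgroup.card_mul_index]

theorem orb_subset {a b : X} (hab : a ≠ b) : S.orb a b ⊆ S.lam a b \ {a} := by
  rintro _ ⟨n, hn, rfl⟩
  exact ⟨S.smul_mem_lam hab hn,
    fun h => hab (smul_left_cancel n ((S.le_stab a n hn).trans (Set.mem_singleton_iff.mp h).symm))⟩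

theorem lam_ncard {a b c d : X} (hab : a ≠ b) (hcd : c ≠ d) :
    (S.lam c d).ncard = (S.lam a b).ncard := by
  obtain ⟨g, rfl, rfl⟩ := S.tt a b c d hab hcd
  have : S.lam (g • a) (g • b) = (fun z => g • z) '' S.lam a b := by
    ext z
    refine ⟨fun h => ⟨g⁻¹ • z, ?_, smul_inv_smul g z⟩, ?_⟩
    · rw [← S.smul_lam_iff hab g, smul_inv_smul]; exact h
    · rintro ⟨u, hu, rfl⟩; exact S.smul_lam hab g hu
  rw [this, Set.ncard_image_of_injective _ (MulAction.injective g)]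

/-- the consequences of a non-degenerate triangle -/
theorem nondeg {x y w : X} (hxy : x ≠ y) (hw : w ∉ S.lam x y) (hne : S.nb x y ≠ S.nb x w) :
    (∀ n ∈ S.N x, ∃ u ∈ S.nb x y, ∃ v ∈ S.nb x w, n = u * v) ∧
    S.orb x y = S.lam x y \ {x} ∧
    (∀ n ∈ S.N x, ∃ t ∈ S.lam y w, n • t = t) := by
  classical
  obtain ⟨hxw, hyw, -, hx⟩ := S.tri hxy hw
  have hk2 : Nat.card (S.nb2 x y w) ≠ Nat.card (S.nb x y) := by
    intro h
    apply hne
    have h1 : S.nb2 x y w = S.nb x y := Subgroup.eq_of_le_of_card_ge inf_le_left h.ge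
    exact Subgroup.eq_of_le_of_card_ge (h1 ▸ inf_le_right) (S.card_nb hxy hxw).le
  obtain ⟨m, hm, hmw⟩ : ∃ m ∈ S.nb y x, m ∉ S.nb2 y x w := by
    by_contra hc
    push Not at hc
    apply hk2
    rw [← S.card_nb2_swap hxy hxw hyw, show S.nb2 y x w = S.nb y x from le_antisymm inf_le_left hc,
      S.card_nb hxy hxy.symm]
  have hmx : m • x = x := (S.mem_nb.mp hm).2
  -- upper bound for `N x`
  let f : ↥(S.N x) →* ↥(S.nb x y) := MonoidHom.mk' (fun n => ⟨dl m n, S.quad hxy hm n.2⟩)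
    fun a b => Subtype.ext (S.dl_mul hmx a.2 b.2)
  let B' : Subgroup ↥(S.nb x y) := (S.nb2 x y w).subgroupOf (S.nb x y)
  have hcomap : B'.comap f = (S.nb x y).subgroupOf (S.N x) := by
    ext n
    simp only [Subgroup.mem_comap, B', Subgroup.mem_subgroupOf]
    constructor
    · intro h
      refine S.mem_nb.mpr ⟨n.2, ?_⟩
      by_contra hny
      exact hmw (S.mem_nb2_of_dl hxy hxw hyw n.2 hny hm h)
    · intro h
      change dl m n ∈ _
      rw [dl_eq_one_iff.mpr (S.comm_cross hxy h hm)]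
      exact one_mem _
  have hNt : Nat.card (S.N x) * Nat.card (S.nb2 x y w)
      ≤ Nat.card (S.nb x y) * Nat.card (S.nb x y) := by
    have h1 : (B'.comap f).index ≤ B'.index := by
      rw [Subgroup.index_comap]
      rw [← Subgroup.relIndex_top_right (H := B')]
      exact Subgroup.relIndex_le_of_le_right le_top
        (by rw [Subgroup.relIndex_top_right]; exact Subgroup.index_ne_zero_of_finite)
    rw [hcomap] at h1
    have h2 := Subgroup.card_mul_index ((S.nb x y).subgroupOf (S.N x))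
    have h3 := Subgroup.card_mul_index B'
    have e2 : Nat.card ↥((S.nb x y).subgroupOf (S.N x)) = Nat.card (S.nb x y) :=
      Nat.card_congr (Subgroup.subgroupOfEquivOfLe
        (show S.nb x y ≤ S.N x from inf_le_left)).toEquiv
    have e3 : Nat.card ↥B' = Nat.card (S.nb2 x y w) :=
      Nat.card_congr (Subgroup.subgroupOfEquivOfLe
        (show S.nb2 x y w ≤ S.nb x y from inf_le_left)).toEquiv
    rw [e2] at h2
    rw [e3] at h3
    calc Nat.card (S.N x) * Nat.card (S.nb2 x y w)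
        = Nat.card (S.nb x y) * (Nat.card (S.nb2 x y w)
            * ((S.nb x y).subgroupOf (S.N x)).index) := by rw [← h2]; ring
      _ ≤ Nat.card (S.nb x y) * (Nat.card (S.nb2 x y w) * B'.index) := by gcongr
      _ = _ := by rw [h3]
  -- the product of `nb x y` and `nb x w`
  let π : ↥(S.nb x y) × ↥(S.nb x w) →* G :=
    MonoidHom.noncommCoprod (S.nb x y).subtype (S.nb x w).subtype
      (fun u v => S.comm x u v u.2.1 v.2.1)
  have hπ : ∀ q, π q = (q.1 : G) * q.2 := fun q => rfl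
  have hker : Nat.card π.ker = Nat.card (S.nb2 x y w) := by
    refine Nat.card_congr
      { toFun := fun q => ⟨q.1.1, Subgroup.mem_inf.mpr ⟨q.1.1.2, ?_⟩⟩
        invFun := fun u => ⟨(⟨u.1, u.2.1⟩, ⟨(u.1)⁻¹, inv_mem u.2.2⟩), by
          rw [MonoidHom.mem_ker, hπ]; exact mul_inv_cancel _⟩
        left_inv := fun q => ?_
        right_inv := fun _ => rfl }
    · have h := q.2
      rw [MonoidHom.mem_ker, hπ] at h
      rw [eq_inv_of_mul_eq_one_left h]
      exact inv_mem q.1.2.2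
    · have h := q.2
      rw [MonoidHom.mem_ker, hπ] at h
      exact Subtype.ext (Prod.ext rfl (Subtype.ext (eq_inv_of_mul_eq_one_right h).symm))
  have hrangeN : π.range = S.N x := by
    refine Subgroup.eq_of_le_of_card_ge ?_ ?_
    · rintro _ ⟨q, rfl⟩; rw [hπ]; exact mul_mem q.1.2.1 q.2.2.1
    · have h1 := Subgroup.card_mul_index π.ker
      rw [Subgroup.index_ker, hker, Nat.card_prod, S.card_nb hxy hxw] at h1
      refine Nat.le_of_mul_le_mul_right (c := Nat.card (S.nb2 x y w)) ?_ Nat.card_pos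
      rw [mul_comm (Nat.card π.range), h1]
      exact hNt
  have hprod : ∀ n ∈ S.N x, ∃ u ∈ S.nb x y, ∃ v ∈ S.nb x w, n = u * v := by
    intro n hn
    rw [← hrangeN] at hn
    obtain ⟨q, rfl⟩ := hn
    exact ⟨q.1, q.1.2, q.2, q.2.2, rfl⟩
  have hNeq : Nat.card (S.N x) * Nat.card (S.nb2 x y w)
      = Nat.card (S.nb x y) * Nat.card (S.nb x y) := by
    have h1 := Subgroup.card_mul_index π.ker
    rw [Subgroup.index_ker, hker, Nat.card_prod, S.card_nb hxy hxw, hrangeN] at h1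
    rw [mul_comm, h1]
  -- counting on the line `y w`
  let L : Finset X := (S.lam y w).toFinite.toFinset
  have hL : ∀ z, z ∈ L ↔ z ∈ S.lam y w := fun z => Set.Finite.mem_toFinset _
  have hxt : ∀ t ∈ L, x ≠ t := fun t ht h => hx (h ▸ (hL t).mp ht)
  have hB : ∀ t ∈ L, S.nb2 x y w ≤ S.nb x t := by
    intro t ht n hn
    obtain ⟨h1, h2, h3⟩ := S.mem_nb2.mp hn
    exact S.mem_nb.mpr ⟨h1, S.fix_line hyw h1 h2 h3 ((hL t).mp ht)⟩
  have hpair : ∀ t ∈ L, ∀ u ∈ L, t ≠ u → S.nb x t ⊓ S.nb x u ≤ S.nb2 x y w := by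
    intro t ht u hu htu n hn
    obtain ⟨h1, h2⟩ := Subgroup.mem_inf.mp hn
    rw [S.mem_nb] at h1 h2
    have e := S.lam_eq hyw ((hL t).mp ht) ((hL u).mp hu) htu
    exact S.mem_nb2.mpr ⟨h1.1,
      S.fix_line htu h1.1 h1.2 h2.2 (e ▸ S.left_mem_lam hyw),
      S.fix_line htu h1.1 h1.2 h2.2 (e ▸ S.right_mem_lam hyw)⟩
  obtain ⟨c1, -, c3⟩ := count_ineq (S.N x) (S.nb2 x y w) L (fun t => S.nb x t)
    (fun t _ => inf_le_left) hB (inf_le_left.trans inf_le_left) hpair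
  have hsum : ∑ t ∈ L, Nat.card (S.nb x t) = L.card * Nat.card (S.nb x y) := by
    rw [Finset.sum_congr rfl (fun t ht => S.card_nb hxy (hxt t ht)), Finset.sum_const, smul_eq_mul]
  rw [hsum] at c1 c3
  have hLc : L.card = (S.lam x y).ncard := by
    rw [← Set.ncard_eq_toFinset_card _ (S.lam y w).toFinite, S.lam_ncard hxy hyw]
  have hsub := S.orb_subset hxy
  have hlam : (S.lam x y \ {x}).ncard + 1 = L.card := by
    rw [hLc, Set.ncard_sdiff_singleton_add_one (S.left_mem_lam hxy) (Set.toFinite _)]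
  have hl : (S.orb x y).ncard ≤ (S.lam x y \ {x}).ncard := Set.ncard_le_ncard hsub (Set.toFinite _)
  have hl2 : 2 ≤ (S.orb x y).ncard := by
    obtain ⟨n, hn, hny⟩ := S.not_fix hxy
    exact (Set.one_lt_ncard (Set.toFinite _)).mpr
      ⟨y, ⟨1, one_mem _, one_smul G y⟩, n • y, ⟨n, hn, rfl⟩, Ne.symm hny⟩
  have horb := S.orb_ncard x y
  have htpos : 0 < Nat.card (S.nb2 x y w) := Nat.card_pos
  have hkpos : 0 < Nat.card (S.nb x y) := Nat.card_pos
  have hkt : Nat.card (S.nb x y) = (S.orb x y).ncard * Nat.card (S.nb2 x y w) := by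
    rw [← horb] at hNeq
    nlinarith
  have hs : (S.lam x y \ {x}).ncard ≤ (S.orb x y).ncard := by
    rw [← horb, ← hlam, hkt] at c1
    by_contra hlt
    push Not at hlt
    have h4 : ((S.lam x y \ {x}).ncard + 1) * (S.orb x y).ncard + 1
        ≤ (S.lam x y \ {x}).ncard + 1 + (S.orb x y).ncard * (S.orb x y).ncard :=
      Nat.le_of_mul_le_mul_right (c := Nat.card (S.nb2 x y w)) (by linarith) htpos
    obtain ⟨d, hd⟩ := Nat.exists_eq_add_of_lt hlt
    obtain ⟨e, he⟩ := Nat.exists_eq_add_of_le hl2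
    rw [hd, he] at h4
    ring_nf at h4
    omega
  refine ⟨hprod, Set.eq_of_subset_of_ncard_le hsub hs (Set.toFinite _), fun n hn => ?_⟩
  obtain ⟨t, ht, hnt⟩ := c3 (by
    rw [← horb, ← hlam, hkt, le_antisymm hs hl]; ring) ⟨y, (hL y).mpr (S.left_mem_lam hyw)⟩ n hn
  exact ⟨t, (hL t).mp ht, (S.mem_nb.mp hnt).2⟩

/-- `N a` is transitive on each line through `a`, minus `a` -/
theorem trans {a b : X} (hab : a ≠ b) {z : X} (hz : z ∈ S.lam a b) (hza : z ≠ a) :
    ∃ n ∈ S.N a, n • b = z := by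
  suffices h : S.orb a b = S.lam a b \ {a} by
    have : z ∈ S.orb a b := h ▸ ⟨hz, hza⟩
    exact this
  obtain ⟨w, hw⟩ : ∃ w, S.nb a b ≠ S.nb a w ∧ w ∉ S.lam a b := by
    obtain ⟨n, hn, hn1⟩ := S.exists_nb hab
    have : ∃ w : X, n • w ≠ w := by
      by_contra hc
      push Not at hc
      exact hn1 (eq_one_of_fix hc)
    obtain ⟨w, hw⟩ := this
    refine ⟨w, fun h => hw (S.mem_nb.mp (h ▸ hn)).2, fun h => hw ?_⟩
    exact S.fix_line hab (S.mem_nb.mp hn).1 (S.le_stab a n (S.mem_nb.mp hn).1) (S.mem_nb.mp hn).2 h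
  exact (S.nondeg hab hw.2 hw.1).2.1

/-- no degenerate triangle -/
theorem no_deg {x y w : X} (hxy : x ≠ y) (hw : w ∉ S.lam x y) : S.nb x y ≠ S.nb x w := by
  intro hdeg
  obtain ⟨hxw, hyw, -, -⟩ := S.tri hxy hw
  -- degeneracy is invariant under permutations
  have deg : ∀ {a b c : X}, a ≠ b → a ≠ c → Nat.card (S.nb2 a b c) = Nat.card (S.nb a b) →
      S.nb a b = S.nb a c := by
    intro a b c hab hac h
    have h1 : S.nb2 a b c = S.nb a b := Subgroup.eq_of_le_of_card_ge inf_le_left h.ge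
    exact Subgroup.eq_of_le_of_card_ge (h1 ▸ inf_le_right) (S.card_nb hab hac).le
  have hT : Nat.card (S.nb2 x y w) = Nat.card (S.nb x y) := by
    rw [nb2, ← hdeg, inf_idem]
  have hyxw : S.nb y x = S.nb y w := deg hxy.symm hyw
    (by rw [S.card_nb2_swap hxy hxw hyw, hT, S.card_nb hxy.symm hxy])
  obtain ⟨n0, hn0, hn01⟩ := S.exists_nb hxy
  obtain ⟨z, hz⟩ : ∃ z : X, n0 • z ≠ z := by
    by_contra hc
    push Not at hc
    exact hn01 (eq_one_of_fix hc)
  obtain ⟨hn0N, hn0y⟩ := S.mem_nb.mp hn0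
  have hn0x : n0 • x = x := S.le_stab x n0 hn0N
  have hn0w : n0 • w = w := (S.mem_nb.mp (hdeg ▸ hn0)).2
  have hzxy : z ∉ S.lam x y := fun h => hz (S.fix_line hxy hn0N hn0x hn0y h)
  have hzxw : z ∉ S.lam x w := fun h => hz (S.fix_line hxw hn0N hn0x hn0w h)
  have hzyw : z ∉ S.lam y w := fun h => hz (S.fix_line hyw hn0N hn0y hn0w h)
  obtain ⟨hxz, hyz, -, -⟩ := S.tri hxy hzxy
  obtain ⟨-, hwz, -, -⟩ := S.tri hxw hzxw
  have hxz' : S.nb x y ≠ S.nb x z := fun h => hz (S.mem_nb.mp (h ▸ hn0)).2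
  -- choose `n` and `m`
  obtain ⟨n, hn, hnσ⟩ : ∃ n ∈ S.nb x z, n ∉ S.nb x y := by
    by_contra hc
    push Not at hc
    exact hxz' (Subgroup.eq_of_le_of_card_ge hc (S.card_nb hxz hxy).le).symm
  obtain ⟨hnN, hnz⟩ := S.mem_nb.mp hn
  have hny : n • y ≠ y := fun h => hnσ (S.mem_nb.mpr ⟨hnN, h⟩)
  have hnw : n • w ≠ w := fun h => hnσ (hdeg ▸ S.mem_nb.mpr ⟨hnN, h⟩)
  have hyxz : S.nb y x ≠ S.nb y z := by
    intro h
    apply hxz'
    apply deg hxy hxz
    rw [← S.card_nb2_swap hxy hxz hyz, nb2, ← h, inf_idem, S.card_nb hxy hxy.symm]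
  obtain ⟨m, hm, hmz⟩ : ∃ m ∈ S.nb y x, m • z ≠ z := by
    by_contra hc
    push Not at hc
    apply hyxz
    refine Subgroup.eq_of_le_of_card_ge (fun a ha => S.mem_nb.mpr ⟨ha.1, hc a ha⟩)
      (S.card_nb hxy.symm hyz).le
  have hc_mem : dl m n ∈ S.nb x y := S.quad hxy hm hnN
  obtain ⟨m', hm', hm'c⟩ := S.dl_surj hxw hnN hnw (s := dl m n) (hdeg ▸ hc_mem)
  have hm'z : m' • z ≠ z := by
    intro h
    have h1 : m' ∈ S.nb2 w x z :=
      S.mem_nb2.mpr ⟨(S.mem_nb.mp hm').1, (S.mem_nb.mp hm').2, h⟩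
    have h2 := S.dl_mem_nb2 hxw hxz h1 hnN
    rw [hm'c] at h2
    have h3 : dl m n ∈ S.nb2 x y z :=
      S.mem_nb2.mpr ⟨(S.mem_nb.mp hc_mem).1, (S.mem_nb.mp hc_mem).2, (S.mem_nb2.mp h2).2.2⟩
    exact hmz (S.mem_nb2.mp (S.mem_nb2_of_dl hxy hxz hyz hnN hny hm h3)).2.2
  set h := (dl m n)⁻¹ * n with hh
  have hhx : h ∈ S.N x := mul_mem (inv_mem (S.mem_nb.mp hc_mem).1) hnN
  have hh1 : h = m * n * m⁻¹ := by simp [hh, dl, mul_assoc]
  have hh2 : h = m' * n * m'⁻¹ := by rw [hh, ← hm'c]; simp [dl, mul_assoc]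
  have hfm : h • (m • z) = m • z := by rw [hh1, mul_smul, mul_smul, inv_smul_smul, hnz]
  have hfm' : h • (m' • z) = m' • z := by rw [hh2, mul_smul, mul_smul, inv_smul_smul, hnz]
  -- a single element of `N z` moving `y` to `m • z` and `w` to `m' • z`
  have hmL : m • z ∈ S.lam z y := by
    rw [S.lam_symm]; exact S.smul_mem_lam hyz (S.mem_nb.mp hm).1
  have hm'L : m' • z ∈ S.lam z w := by
    rw [S.lam_symm]; exact S.smul_mem_lam hwz (S.mem_nb.mp hm').1
  obtain ⟨g1, hg1, hg1y⟩ := S.trans hyz.symm hmL hmz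
  obtain ⟨g2, hg2, hg2w⟩ := S.trans hwz.symm hm'L hm'z
  have hwzy : w ∉ S.lam z y := by
    rw [S.lam_symm]
    exact (S.tri hyw hzyw).2.2.1
  have hzne : S.nb z y ≠ S.nb z w := by
    intro he
    apply hyxz
    rw [hyxw]
    refine (deg hyz hyw ?_).symm
    rw [← S.card_nb2_swap hyz.symm hwz.symm hyw |>.symm, nb2, ← he, inf_idem,
      S.card_nb hyz hyz.symm]
  obtain ⟨hprod, -, hcov⟩ := S.nondeg hyz.symm hwzy hzne
  obtain ⟨u, hu, v, hv, huv⟩ := hprod (g1⁻¹ * g2) (mul_mem (inv_mem hg1) hg2)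
  have hgy : (g1 * u) • y = m • z := by rw [mul_smul, (S.mem_nb.mp hu).2, hg1y]
  have hgw : (g1 * u) • w = m' • z := by
    have e : g2 = g1 * u * v := by rw [mul_assoc, ← huv, mul_inv_cancel_left]
    rw [← hg2w, e, mul_smul (g1 * u) v, (S.mem_nb.mp hv).2]
  obtain ⟨t, ht, htfix⟩ := hcov (g1 * u) (mul_mem hg1 (S.mem_nb.mp hu).1)
  have htL : t ∈ S.lam (m • z) (m' • z) := by
    have := S.smul_lam hyw (g1 * u) ht
    rwa [hgy, hgw, htfix] at this
  have hne2 : m • z ≠ m' • z := fun e => hyw (smul_left_cancel (g1 * u) (by rw [hgy, hgw, e]))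
  have hht : h • t = t := S.fix_line hne2 hhx hfm hfm' htL
  have hσt : S.nb x y = S.nb x t := by
    have hxt : x ≠ t := by
      rintro rfl
      exact (S.tri hxy hw).2.2.2 ht
    refine Subgroup.eq_of_le_of_card_ge (fun a ha => ?_) (S.card_nb hxy hxt).le
    obtain ⟨ha1, ha2⟩ := S.mem_nb.mp ha
    exact S.mem_nb.mpr ⟨ha1, S.fix_line hyw ha1 ha2 (S.mem_nb.mp (hdeg ▸ ha)).2 ht⟩
  apply hnσ
  have : h ∈ S.nb x y := hσt ▸ S.mem_nb.mpr ⟨hhx, hht⟩
  have e : n = dl m n * h := by rw [hh, mul_inv_cancel_left]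
  rw [e]
  exact mul_mem hc_mem this

theorem tri_prod {x y w : X} (hxy : x ≠ y) (hw : w ∉ S.lam x y) :
    ∀ n ∈ S.N x, ∃ u ∈ S.nb x y, ∃ v ∈ S.nb x w, n = u * v :=
  (S.nondeg hxy hw (S.no_deg hxy hw)).1

theorem tri_cover {x y w : X} (hxy : x ≠ y) (hw : w ∉ S.lam x y) :
    ∀ n ∈ S.N x, ∃ t ∈ S.lam y w, n • t = t :=
  (S.nondeg hxy hw (S.no_deg hxy hw)).2.2

/-- simultaneous transitivity -/
theorem trans_two {a y w y' w' : X} (hay : a ≠ y) (hw : w ∉ S.lam a y) (hy' : y' ∈ S.lam a y)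
    (hy'a : y' ≠ a) (hw' : w' ∈ S.lam a w) (hw'a : w' ≠ a) :
    ∃ g ∈ S.N a, g • y = y' ∧ g • w = w' := by
  obtain ⟨haw, -, -, -⟩ := S.tri hay hw
  obtain ⟨g1, hg1, e1⟩ := S.trans hay hy' hy'a
  obtain ⟨g2, hg2, e2⟩ := S.trans haw hw' hw'a
  obtain ⟨u, hu, v, hv, huv⟩ := S.tri_prod hay hw (g1⁻¹ * g2) (mul_mem (inv_mem hg1) hg2)
  refine ⟨g1 * u, mul_mem hg1 (S.mem_nb.mp hu).1,
    by rw [mul_smul, (S.mem_nb.mp hu).2, e1], ?_⟩
  have e : g2 = g1 * u * v := by rw [mul_assoc, ← huv, mul_inv_cancel_left]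
  rw [← e2, e, mul_smul (g1 * u) v, (S.mem_nb.mp hv).2]

/-- the axiom of Veblen and Young -/
theorem veblen {a y w y' w' : X} (hay : a ≠ y) (hw : w ∉ S.lam a y) (hy' : y' ∈ S.lam a y)
    (hy'a : y' ≠ a) (hw' : w' ∈ S.lam a w) (hw'a : w' ≠ a) :
    y' ≠ w' ∧ ∃ t ∈ S.lam y w, t ∈ S.lam y' w' := by
  obtain ⟨haw, hyw, -, -⟩ := S.tri hay hw
  obtain ⟨g, hg, e1, e2⟩ := S.trans_two hay hw hy' hy'a hw' hw'a
  obtain ⟨t, ht, hgt⟩ := S.tri_cover hay hw g hg
  refine ⟨fun e => hyw (smul_left_cancel g (by rw [e1, e2, e])), t, ht, ?_⟩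
  have := S.smul_lam hyw g ht
  rwa [hgt, e1, e2] at this

end Setup

end Cfsg.Agent.H70.ONan
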